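import Mathlib

/-!
# Lifting linear maps out of finitely presented modules along a filtered system (helper24)

`P ψ` a system of `A`-modules indexed contravariantly by a cofiltered category `C`, with transition
maps `κ g : P ψ → P ψ'` for `g : ψ' ⟶ ψ` and compatible maps `κI ψ : P ψ → Pl` exhibiting `Pl` as
the colimit *elementwise* (`hrep`, `heq`).  Then every linear map from a finitely presented module
`M` to `Pl` lifts to some stage, and two lifts from a finitely generated module which agree in `Pl`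
agree at a later stage.
-/

set_option autoImplicit false
universe u v w w'
open CategoryTheory

namespace Groth.Agent.H24.HomLim

section Common

variable {C : Type v} [Category.{w} C] [IsCofiltered C]

/-- Finitely many properties, each holding at some stage over `ψ` and stable under refinement, hold
at a common stage over `ψ`. -/
theorem exists_common_over {X : Type*} (ψ : C) (s : Finset X)
    (Q : ∀ ψ' : C, (ψ' ⟶ ψ) → X → Prop)
    (hmono : ∀ (ψ' : C) (g : ψ' ⟶ ψ) (ψ'' : C) (a : ψ'' ⟶ ψ') (x : X), Q ψ' g x → Q ψ'' (a ≫ g) x)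
    (hex : ∀ x ∈ s, ∃ (ψ' : C) (g : ψ' ⟶ ψ), Q ψ' g x) :
    ∃ (ψ' : C) (g : ψ' ⟶ ψ), ∀ x ∈ s, Q ψ' g x := by
  classical
  induction s using Finset.induction_on with
  | empty => exact ⟨ψ, 𝟙 ψ, fun x hx => absurd hx (Finset.notMem_empty x)⟩
  | insert x s hx ih =>
    obtain ⟨ψ₁, g₁, h₁⟩ := ih fun y hy => hex y (Finset.mem_insert_of_mem hy)
    obtain ⟨ψ₂, g₂, h₂⟩ := hex x (Finset.mem_insert_self x s)
    obtain ⟨ψ₃, a, b, hab⟩ := IsCofiltered.cospan g₁ g₂
    refine ⟨ψ₃, a ≫ g₁, fun y hy => ?_⟩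
    rcases Finset.mem_insert.mp hy with rfl | hy
    · rw [hab]
      exact hmono _ _ _ _ _ h₂
    · exact hmono _ _ _ _ _ (h₁ y hy)

end Common

section Lift

variable {C : Type v} [Category.{w} C] [IsCofiltered C] {A : Type u} [CommRing A]
  {P : C → Type w'} [∀ ψ, AddCommGroup (P ψ)] [∀ ψ, Module A (P ψ)]
  {Pl : Type w'} [AddCommGroup Pl] [Module A Pl]
  (κ : ∀ {ψ ψ' : C}, (ψ' ⟶ ψ) → P ψ →ₗ[A] P ψ')
  (κI : ∀ ψ : C, P ψ →ₗ[A] Pl)
  (hκ : ∀ {ψ ψ' ψ'' : C} (g : ψ' ⟶ ψ) (g' : ψ'' ⟶ ψ'), (κ g').comp (κ g) = κ (g' ≫ g))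
  (hκI : ∀ {ψ ψ' : C} (g : ψ' ⟶ ψ), (κI ψ').comp (κ g) = κI ψ)
  (hrep : ∀ p : Pl, ∃ (ψ : C) (p' : P ψ), κI ψ p' = p)
  (heq : ∀ (ψ : C) (p₁ p₂ : P ψ), κI ψ p₁ = κI ψ p₂ → ∃ (ψ' : C) (g : ψ' ⟶ ψ), κ g p₁ = κ g p₂)
  {M : Type*} [AddCommGroup M] [Module A M]

include hκ heq in
/-- Two lifts of the same map out of a finitely generated module agree at a later stage. -/
theorem exists_comp_eq_of_finite [Module.Finite A M] {ψ : C} (μ₁ μ₂ : M →ₗ[A] P ψ)
    (h : (κI ψ).comp μ₁ = (κI ψ).comp μ₂) :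
    ∃ (ψ' : C) (g : ψ' ⟶ ψ), (κ g).comp μ₁ = (κ g).comp μ₂ := by
  classical
  obtain ⟨s, hs⟩ := (Module.Finite.fg_top : (⊤ : Submodule A M).FG)
  obtain ⟨ψ', g, hg⟩ := exists_common_over ψ s (fun ψ' g m => κ g (μ₁ m) = κ g (μ₂ m))
    (fun ψ' g ψ'' a m hm => by
      rw [← hκ g a, LinearMap.comp_apply, LinearMap.comp_apply, hm])
    (fun m _ => heq ψ _ _ (LinearMap.congr_fun h m))
  refine ⟨ψ', g, LinearMap.ext_on hs fun m hm => ?_⟩
  exact hg m hm

include hκ hκI hrep heq in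
/-- A linear map from a finitely presented module to the colimit lifts to some stage. -/
theorem exists_lift_of_finitePresentation [Module.FinitePresentation A M] (l : M →ₗ[A] Pl) :
    ∃ (ψ : C) (μ : M →ₗ[A] P ψ), (κI ψ).comp μ = l := by
  classical
  obtain ⟨n, m, f, g, hf, hfg⟩ := Module.FinitePresentation.exists_fin' A M
  obtain ⟨ψ₀⟩ := IsCofiltered.nonempty (C := C)
  -- lifts of the images of the generators at a common stage
  obtain ⟨ψ₁, -, h₁⟩ := exists_common_over ψ₀ (Finset.univ : Finset (Fin n))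
    (fun ψ' _ i => ∃ p : P ψ', κI ψ' p = l (f (Pi.single i 1)))
    (fun ψ' g ψ'' a i ⟨p, hp⟩ => ⟨κ a p, by rw [← hp, ← hκI a]; rfl⟩)
    (fun i _ => by
      obtain ⟨ψ, p, hp⟩ := hrep (l (f (Pi.single i 1)))
      refine ⟨IsCofiltered.min ψ ψ₀, IsCofiltered.minToRight ψ ψ₀,
        κ (IsCofiltered.minToLeft ψ ψ₀) p, ?_⟩
      rw [← hp, ← hκI (IsCofiltered.minToLeft ψ ψ₀)]; rfl)
  choose p hp using fun i => h₁ i (Finset.mem_univ i)
  obtain ⟨μ₀, hμ₀⟩ : ∃ μ₀ : (Fin n → A) →ₗ[A] P ψ₁, ∀ i, μ₀ (Pi.single i 1) = p i :=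
    ⟨(Pi.basisFun A (Fin n)).constr A p, fun i => by
      rw [← Pi.basisFun_apply, Module.Basis.constr_basis]⟩
  have h₂ : (κI ψ₁).comp μ₀ = l.comp f := by
    refine LinearMap.pi_ext' fun i => ?_
    ext
    simp only [LinearMap.coe_comp, Function.comp_apply, LinearMap.coe_single]
    rw [hμ₀, hp]
  -- kill the relations
  have h₃ : (κI ψ₁).comp (μ₀.comp g) = (κI ψ₁).comp (0 : (Fin m → A) →ₗ[A] P ψ₁) := by
    rw [← LinearMap.comp_assoc, h₂, LinearMap.comp_zero]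
    refine LinearMap.ext fun x => ?_
    simp only [LinearMap.coe_comp, Function.comp_apply, LinearMap.zero_apply]
    rw [(hfg (g x)).mpr ⟨x, rfl⟩, map_zero]
  obtain ⟨ψ₂, a, ha⟩ := exists_comp_eq_of_finite κ κI hκ heq (μ₀.comp g) 0 h₃
  rw [LinearMap.comp_zero] at ha
  have hker : LinearMap.ker f ≤ LinearMap.ker ((κ a).comp μ₀) := by
    intro x hx
    obtain ⟨y, rfl⟩ := (hfg x).mp hx
    exact LinearMap.congr_fun ha y
  refine ⟨ψ₂, ((LinearMap.ker f).liftQ _ hker).comp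
    (f.quotKerEquivOfSurjective hf).symm.toLinearMap, ?_⟩
  ext x
  obtain ⟨y, rfl⟩ := hf x
  have e1 : (f.quotKerEquivOfSurjective hf).symm (f y) = Submodule.Quotient.mk y := by
    rw [LinearEquiv.symm_apply_eq]
    rfl
  simp only [LinearMap.coe_comp, Function.comp_apply, LinearEquiv.coe_coe]
  rw [e1, Submodule.liftQ_apply, LinearMap.comp_apply]
  have := LinearMap.congr_fun (hκI a) (μ₀ y)
  rw [LinearMap.comp_apply] at this
  rw [this]
  exact LinearMap.congr_fun h₂ y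

end Lift

end Groth.Agent.H24.HomLim
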