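import Mathlib
import Groth.Agent.H24.ModLimAlg
import Groth.Agent.H24.HomLim.ModFP

/-!
# A basis of `colim R_j ⊗ M` descends to a finite stage (helper24)

In the setting of `ModLimAlg` (a filtered system of rings `R j` under `A` with colimit `c.pt`), for a
finitely presented `A`-module `M`: if `c.pt ⊗ M` is free with a basis indexed by `Fin n`, then
`R j ⊗ M` is free with a basis indexed by `Fin n` for all large `j`.
-/

set_option autoImplicit false
universe u
open CategoryTheory CategoryTheory.Limits MonoidalCategory TensorProduct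

namespace Groth.Agent.H24.HomLim

open Groth.Agent.H24.ModLimAlg

section ExtG

variable {A : CommRingCat.{u}} {S : Type u} [CommRing S] (g : A →+* S) (M : ModuleCat.{u} A)

/-- The `S`-linear functional on `S ⊗ M` extending an `A`-linear map `M → S`. -/
noncomputable def extG (l : M →ₗ[A] ((ModuleCat.restrictScalars g).obj (ModuleCat.of S S))) :
    ((ModuleCat.extendScalars g).obj M) →ₗ[S] S :=
  (ModuleCat.ExtendRestrictScalarsAdj.HomEquiv.fromExtendScalars g (X := M)
    (Y := ModuleCat.of S S) (ModuleCat.ofHom (X := ↑M)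
      (Y := ↑((ModuleCat.restrictScalars g).obj (ModuleCat.of S S))) l)).hom

theorem extG_tmul (l : M →ₗ[A] ((ModuleCat.restrictScalars g).obj (ModuleCat.of S S)))
    (r : S) (m : M) :
    extG g M l ((show ↑((ModuleCat.restrictScalars g).obj (ModuleCat.of S S)) from r) ⊗ₜ[A] m) =
      r * (show S from l m) := by
  letI m1 : Module A S := Module.compHom S g
  letI m2 : Module A (ModuleCat.of S S) := Module.compHom (ModuleCat.of S S) g
  unfold extG
  erw [ModuleCat.ExtendRestrictScalarsAdj.HomEquiv.fromExtendScalars_hom_apply]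
  erw [TensorProduct.lift.tmul]
  rfl

theorem extG_oneE (l : M →ₗ[A] ((ModuleCat.restrictScalars g).obj (ModuleCat.of S S))) (m : M) :
    extG g M l (oneE g m) = (show S from l m) := by
  unfold oneE
  rw [extG_tmul, one_mul]

/-- Two `S`-linear maps out of `S ⊗ M` which agree on the `1 ⊗ m` are equal. -/
theorem extendScalars_linearMap_ext {N : Type*} [AddCommGroup N] [Module S N]
    (p q : ((ModuleCat.extendScalars g).obj M) →ₗ[S] N)
    (h : ∀ m : M, p (oneE g m) = q (oneE g m)) : p = q := by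
  ext z
  induction z using TensorProduct.induction_on with
  | zero => exact (map_zero p).trans (map_zero q).symm
  | tmul r m =>
    have := tmul_eq_smul_oneE (N := M) g r m
    rw [← this, map_smul, map_smul, h]
  | add a b ha hb => exact (map_add p a b).trans ((congrArg₂ (· + ·) ha hb).trans (map_add q a b).symm)

/-- The equation `1 ⊗ m = ∑ μ i m • y i` propagates from a generating set to all of `M`. -/
theorem oneE_eq_sum_of_span {n : ℕ} (y : Fin n → ((ModuleCat.extendScalars g).obj M))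
    (μ : Fin n → (M →ₗ[A] ((ModuleCat.restrictScalars g).obj (ModuleCat.of S S))))
    (s : Set M) (hs : Submodule.span A s = ⊤)
    (h2 : ∀ m ∈ s, oneE g m = ∑ i, (show S from μ i m) • y i) (m : M) :
    oneE g m = ∑ i, (show S from μ i m) • y i := by
  have hm : m ∈ Submodule.span A s := by rw [hs]; trivial
  induction hm using Submodule.span_induction with
  | mem x hx => exact h2 x hx
  | zero =>
    have h0 : oneE g (0 : M) = 0 := TensorProduct.tmul_zero _ _
    rw [h0]
    symm
    refine Finset.sum_eq_zero fun i _ => ?_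
    rw [map_zero]
    exact zero_smul S (y i)
  | add x x' _ _ hx hx' =>
    have ha : oneE g (x + x') = oneE g x + oneE g x' := TensorProduct.tmul_add _ _ _
    rw [ha, hx, hx', ← Finset.sum_add_distrib]
    refine Finset.sum_congr rfl fun i _ => ?_
    rw [map_add]
    exact (add_smul (show S from μ i x) (show S from μ i x') (y i)).symm
  | smul a x _ hx =>
    rw [oneE_smul, hx, Finset.smul_sum]
    refine Finset.sum_congr rfl fun i _ => ?_
    rw [map_smul, smul_smul]
    rfl

/-- **Static criterion**: elements `y i` of `S ⊗ M` and `A`-linear functionals `μ k : M → S` with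
`μ̃ k (y i) = δ_{ki}` and `1 ⊗ m = ∑ μ i m • y i` (for `m` in a generating set) give a basis. -/
theorem nonempty_basis_of_data {n : ℕ} (y : Fin n → ((ModuleCat.extendScalars g).obj M))
    (μ : Fin n → (M →ₗ[A] ((ModuleCat.restrictScalars g).obj (ModuleCat.of S S))))
    (h1 : ∀ k i, extG g M (μ k) (y i) = if k = i then 1 else 0)
    (s : Set M) (hs : Submodule.span A s = ⊤)
    (h2 : ∀ m ∈ s, oneE g m = ∑ i, (show S from μ i m) • y i) :
    Nonempty (Module.Basis (Fin n) S ((ModuleCat.extendScalars g).obj M)) := by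
  classical
  have h2' := oneE_eq_sum_of_span g M y μ s hs h2
  let v : ((ModuleCat.extendScalars g).obj M) →ₗ[S] (Fin n → S) :=
    LinearMap.pi fun k => extG g M (μ k)
  let u : (Fin n → S) →ₗ[S] ((ModuleCat.extendScalars g).obj M) := Fintype.linearCombination S y
  have hvu : v.comp u = LinearMap.id := by
    refine LinearMap.ext fun c => funext fun k => ?_
    change extG g M (μ k) (Fintype.linearCombination S y c) = c k
    rw [Fintype.linearCombination_apply, map_sum]
    simp only [map_smul, h1, smul_eq_mul, mul_ite, mul_one, mul_zero, Finset.sum_ite_eq,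
      Finset.mem_univ, if_true]
  have huv : u.comp v = LinearMap.id := by
    refine extendScalars_linearMap_ext g M _ _ fun m => ?_
    change Fintype.linearCombination S y (fun k => extG g M (μ k) (oneE g m)) = oneE g m
    rw [Fintype.linearCombination_apply]
    refine (Finset.sum_congr rfl fun i _ => ?_).trans (h2' m).symm
    rw [extG_oneE]
  exact ⟨Module.Basis.ofEquivFun (LinearEquiv.ofLinearMap v u hvu huv)⟩

end ExtG

section Common

/-- Filtered version of `exists_common_over`. -/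
theorem exists_common_under {J : Type*} [Category J] [IsFiltered J] {X : Type*} (j : J)
    (s : Finset X) (Q : ∀ j' : J, (j ⟶ j') → X → Prop)
    (hmono : ∀ (j' : J) (g : j ⟶ j') (j'' : J) (a : j' ⟶ j'') (x : X), Q j' g x → Q j'' (g ≫ a) x)
    (hex : ∀ x ∈ s, ∃ (j' : J) (g : j ⟶ j'), Q j' g x) :
    ∃ (j' : J) (g : j ⟶ j'), ∀ x ∈ s, Q j' g x := by
  obtain ⟨ψ', g, hg⟩ := exists_common_over (C := Jᵒᵖ) (Opposite.op j) s
    (fun ψ' g x => Q ψ'.unop g.unop x)
    (fun ψ' g ψ'' a x hx => by
      rw [unop_comp]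
      exact hmono _ _ _ _ _ hx)
    (fun x hx => by
      obtain ⟨j', g, hg⟩ := hex x hx
      exact ⟨Opposite.op j', g.op, hg⟩)
  exact ⟨ψ'.unop, g.unop, hg⟩

end Common

section Dynamic

variable {J : Type u} [SmallCategory J] [IsFiltered J] {R : J ⥤ CommRingCat.{u}} {c : Cocone R}
  (hc : IsColimit c) {A : CommRingCat.{u}} (α : ∀ j, A ⟶ R.obj j)
  (hαn : ∀ {j j' : J} (f : j ⟶ j'), α j ≫ R.map f = α j')
  (αI : A ⟶ c.pt) (hα : ∀ j, α j ≫ c.ι.app j = αI) (M : ModuleCat.{u} A)

/-- Additive maps out of `S ⊗ M` agreeing on pure tensors are equal. -/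
theorem addHom_ext_tmul {S : Type u} [CommRing S] (g : A →+* S) {N : Type*} [AddCommMonoid N]
    (fA fB : ((ModuleCat.extendScalars g).obj M) →+ N)
    (h : ∀ (r : S) (m : M),
      fA ((show ↑((ModuleCat.restrictScalars g).obj (ModuleCat.of S S)) from r) ⊗ₜ[A] m) =
      fB ((show ↑((ModuleCat.restrictScalars g).obj (ModuleCat.of S S)) from r) ⊗ₜ[A] m))
    (z : ((ModuleCat.extendScalars g).obj M)) : fA z = fB z := by
  induction z using TensorProduct.induction_on with
  | zero => exact (map_zero fA).trans (map_zero fB).symm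
  | tmul r m => exact h r m
  | add a b ha hb =>
    exact (map_add fA a b).trans ((congrArg₂ (· + ·) ha hb).trans (map_add fB a b).symm)

/-- Scalar multiplication as an additive map. -/
noncomputable def smulHom {S : Type u} [CommRing S] (g : A →+* S) (r : S) :
    ((ModuleCat.extendScalars g).obj M) →+ ((ModuleCat.extendScalars g).obj M) :=
  AddMonoidHom.mk' (fun z => r • z) (smul_add r)

theorem smulHom_apply {S : Type u} [CommRing S] (g : A →+* S) (r : S)
    (z : ((ModuleCat.extendScalars g).obj M)) : smulHom M g r z = r • z := rfl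

theorem smulHom_tmul {S : Type u} [CommRing S] (g : A →+* S) (r r' : S) (m : M) :
    smulHom M g r ((show ↑((ModuleCat.restrictScalars g).obj (ModuleCat.of S S)) from r') ⊗ₜ[A] m) =
      ((show ↑((ModuleCat.restrictScalars g).obj (ModuleCat.of S S)) from r * r') ⊗ₜ[A] m) :=
  ModuleCat.ExtendScalars.smul_tmul _ _ _ _

/-- The transition map `R j ⊗ M → R j' ⊗ M`, as an additive map of the extended modules. -/
noncomputable def trE {j j' : J} (f : j ⟶ j') :
    ((ModuleCat.extendScalars (α j).hom).obj M) →+ ((ModuleCat.extendScalars (α j').hom).obj M) :=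
  (tr α hαn M f).hom.toAddMonoidHom

/-- The map `R j ⊗ M → c.pt ⊗ M`, as an additive map of the extended modules. -/
noncomputable def trIE (j : J) :
    ((ModuleCat.extendScalars (α j).hom).obj M) →+ ((ModuleCat.extendScalars αI.hom).obj M) :=
  (trI α hαn αI hα M j).hom.toAddMonoidHom

theorem trE_tmul {j j' : J} (f : j ⟶ j') (x : R.obj j) (m : M) :
    trE α hαn M f ((show ↑((ModuleCat.restrictScalars (α j).hom).obj
      (ModuleCat.of (R.obj j) (R.obj j))) from x) ⊗ₜ[A] m) =
      ((show ↑((ModuleCat.restrictScalars (α j').hom).obj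
        (ModuleCat.of (R.obj j') (R.obj j'))) from (R.map f).hom x) ⊗ₜ[A] m) :=
  tr_tmul α hαn M f x m

theorem trIE_tmul (j : J) (x : R.obj j) (m : M) :
    trIE α hαn αI hα M j ((show ↑((ModuleCat.restrictScalars (α j).hom).obj
      (ModuleCat.of (R.obj j) (R.obj j))) from x) ⊗ₜ[A] m) =
      ((show ↑((ModuleCat.restrictScalars αI.hom).obj
        (ModuleCat.of c.pt c.pt)) from (c.ι.app j).hom x) ⊗ₜ[A] m) :=
  trI_tmul α hαn αI hα M j x m

/-- The transition maps are semilinear. -/
theorem trE_smul {j j' : J} (f : j ⟶ j') (r : R.obj j)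
    (z : ((ModuleCat.extendScalars (α j).hom).obj M)) :
    trE α hαn M f (r • z) = ((R.map f).hom r) • trE α hαn M f z := by
  refine addHom_ext_tmul M (α j).hom ((trE α hαn M f).comp (smulHom M (α j).hom r))
    ((smulHom M (α j').hom ((R.map f).hom r)).comp (trE α hαn M f)) (fun x m => ?_) z
  rw [AddMonoidHom.comp_apply, AddMonoidHom.comp_apply, smulHom_tmul, trE_tmul, trE_tmul,
    smulHom_tmul, map_mul]

theorem trIE_smul (j : J) (r : R.obj j) (z : ((ModuleCat.extendScalars (α j).hom).obj M)) :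
    trIE α hαn αI hα M j (r • z) = ((c.ι.app j).hom r) • trIE α hαn αI hα M j z := by
  refine addHom_ext_tmul M (α j).hom ((trIE α hαn αI hα M j).comp (smulHom M (α j).hom r))
    ((smulHom M αI.hom ((c.ι.app j).hom r)).comp (trIE α hαn αI hα M j)) (fun x m => ?_) z
  rw [AddMonoidHom.comp_apply, AddMonoidHom.comp_apply, smulHom_tmul, trIE_tmul, trIE_tmul,
    smulHom_tmul, map_mul]

theorem trE_oneE {j j' : J} (f : j ⟶ j') (m : M) :
    trE α hαn M f (oneE (α j).hom m) = oneE (α j').hom m := by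
  unfold oneE
  rw [trE_tmul, map_one]

theorem trIE_oneE (j : J) (m : M) :
    trIE α hαn αI hα M j (oneE (α j).hom m) = oneE αI.hom m := by
  unfold oneE
  rw [trIE_tmul, map_one]

theorem trE_comp {j j' j'' : J} (f : j ⟶ j') (f' : j' ⟶ j'')
    (z : ((ModuleCat.extendScalars (α j).hom).obj M)) :
    trE α hαn M (f ≫ f') z = trE α hαn M f' (trE α hαn M f z) := by
  have := tr_comp α hαn M f f'
  unfold trE
  rw [this]
  rfl

theorem trE_trIE {j j' : J} (f : j ⟶ j') (z : ((ModuleCat.extendScalars (α j).hom).obj M)) :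
    trIE α hαn αI hα M j' (trE α hαn M f z) = trIE α hαn αI hα M j z := by
  have := tr_trI α hαn αI hα M f
  unfold trIE trE
  rw [← this]
  rfl

/-- The `A`-linear transition map `R j → R j'`. -/
noncomputable def tQ {j j' : J} (f : j ⟶ j') : ↑(Q₀ α j) →ₗ[A] ↑(Q₀ α j') := ((Q α hαn).map f).hom

theorem tQ_apply {j j' : J} (f : j ⟶ j') (x : ↑(Q₀ α j)) :
    (show R.obj j' from tQ α hαn f x) = (R.map f).hom (show R.obj j from x) := rfl

theorem tQ_comp {j j' j'' : J} (f : j ⟶ j') (f' : j' ⟶ j'') :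
    tQ α hαn f' ∘ₗ tQ α hαn f = tQ α hαn (f ≫ f') := by
  ext x
  change (R.map f').hom ((R.map f).hom x) = (R.map (f ≫ f')).hom x
  rw [R.map_comp]
  rfl

/-- The `A`-linear map `R j → c.pt`. -/
noncomputable def ιQ (j : J) : ↑(Q₀ α j) →ₗ[A] ↑(QI αI) := ((cQ α hαn αI hα).ι.app j).hom

theorem ιQ_apply (j : J) (x : ↑(Q₀ α j)) :
    (show c.pt from ιQ α hαn αI hα j x) = (c.ι.app j).hom (show R.obj j from x) := rfl

theorem ιQ_comp_map {j j' : J} (f : j ⟶ j') :
    ιQ α hαn αI hα j' ∘ₗ tQ α hαn f = ιQ α hαn αI hα j := by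
  ext x
  change (c.ι.app j').hom ((R.map f).hom x) = (c.ι.app j).hom x
  rw [← c.w f]
  rfl

/-- Naturality of the extended functionals in the stage. -/
theorem extG_trE {j j' : J} (f : j ⟶ j') (l : M →ₗ[A] ↑(Q₀ α j))
    (z : ((ModuleCat.extendScalars (α j).hom).obj M)) :
    extG (α j').hom M (tQ α hαn f ∘ₗ l) (trE α hαn M f z) =
      (R.map f).hom (extG (α j).hom M l z) := by
  refine addHom_ext_tmul M (α j).hom
    ((extG (α j').hom M (tQ α hαn f ∘ₗ l)).toAddMonoidHom.comp (trE α hαn M f))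
    ((R.map f).hom.toAddMonoidHom.comp (extG (α j).hom M l).toAddMonoidHom) (fun x m => ?_) z
  simp only [AddMonoidHom.comp_apply, LinearMap.toAddMonoidHom_coe, RingHom.toAddMonoidHom_eq_coe,
    AddMonoidHom.coe_coe]
  rw [trE_tmul, extG_tmul, extG_tmul, map_mul]
  rfl

theorem extG_trIE (j : J) (l : M →ₗ[A] ↑(Q₀ α j))
    (z : ((ModuleCat.extendScalars (α j).hom).obj M)) :
    extG αI.hom M (ιQ α hαn αI hα j ∘ₗ l) (trIE α hαn αI hα M j z) =
      (c.ι.app j).hom (extG (α j).hom M l z) := by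
  refine addHom_ext_tmul M (α j).hom
    ((extG αI.hom M (ιQ α hαn αI hα j ∘ₗ l)).toAddMonoidHom.comp
      (trIE α hαn αI hα M j))
    ((c.ι.app j).hom.toAddMonoidHom.comp (extG (α j).hom M l).toAddMonoidHom) (fun x m => ?_) z
  simp only [AddMonoidHom.comp_apply, LinearMap.toAddMonoidHom_coe, RingHom.toAddMonoidHom_eq_coe,
    AddMonoidHom.coe_coe]
  rw [trIE_tmul, extG_tmul, extG_tmul, map_mul]
  rfl

section Persist

variable {n : ℕ} {j j' : J} (f : j ⟶ j') (y : Fin n → ((ModuleCat.extendScalars (α j).hom).obj M))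
  (μ : Fin n → (M →ₗ[A] ↑(Q₀ α j)))

theorem eq1_persist
    (h : ∀ k i, extG (α j).hom M (μ k) (y i) = if k = i then 1 else 0) (k i : Fin n) :
    extG (α j').hom M (tQ α hαn f ∘ₗ μ k) (trE α hαn M f (y i)) =
      if k = i then 1 else 0 := by
  rw [extG_trE, h]
  split_ifs
  · exact map_one _
  · exact map_zero _

theorem eq2_persist (m : M)
    (h : oneE (α j).hom m = ∑ i, (show R.obj j from μ i m) • y i) :
    oneE (α j').hom m = ∑ i, (show R.obj j' from (tQ α hαn f ∘ₗ μ i) m) •
      trE α hαn M f (y i) := by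
  have h1 := congrArg (trE α hαn M f) h
  rw [trE_oneE, map_sum] at h1
  rw [h1]
  refine Finset.sum_congr rfl fun i _ => ?_
  rw [trE_smul]
  rfl

end Persist

include hc in
theorem exists_map_eq_of_ι_eq {j : J} (x y : R.obj j)
    (h : (c.ι.app j).hom x = (c.ι.app j).hom y) :
    ∃ (j' : J) (f : j ⟶ j'), (R.map f).hom x = (R.map f).hom y := by
  obtain ⟨k, f, g, hk⟩ := Concrete.isColimit_exists_of_rep_eq R hc x y h
  refine ⟨IsFiltered.coeq f g, f ≫ IsFiltered.coeqHom f g, ?_⟩
  have h2 : (R.map (f ≫ IsFiltered.coeqHom f g)).hom y =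
      (R.map (g ≫ IsFiltered.coeqHom f g)).hom y := by
    rw [IsFiltered.coeq_condition]
  rw [h2, R.map_comp, R.map_comp]
  change (R.map (IsFiltered.coeqHom f g)).hom ((R.map f).hom x) =
    (R.map (IsFiltered.coeqHom f g)).hom ((R.map g).hom y)
  exact congrArg _ hk

section Coord

variable {n : ℕ} (b : Module.Basis (Fin n) c.pt ((ModuleCat.extendScalars αI.hom).obj M))

/-- The coordinate functionals of a basis of `c.pt ⊗ M`, restricted to `M`. -/
noncomputable def coordL (k : Fin n) : M →ₗ[A] ↑(QI αI) where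
  toFun m := (show ↑(QI αI) from b.repr (oneE αI.hom m) k)
  map_add' m m' := by
    have ha : oneE αI.hom (m + m') = oneE αI.hom m + oneE αI.hom m' := TensorProduct.tmul_add _ _ _
    rw [ha, map_add, Finsupp.add_apply]
    rfl
  map_smul' a m := by
    rw [oneE_smul, map_smul, Finsupp.smul_apply, RingHom.id_apply]
    rfl

theorem coordL_apply (k : Fin n) (m : M) :
    (show c.pt from coordL αI M b k m) = b.repr (oneE αI.hom m) k := rfl

theorem extG_coordL (k : Fin n) : extG αI.hom M (coordL αI M b k) = b.coord k := by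
  refine extendScalars_linearMap_ext αI.hom M _ _ fun m => ?_
  rw [extG_oneE, Module.Basis.coord_apply]
  rfl

end Coord

section Exists

variable {n : ℕ} (b : Module.Basis (Fin n) c.pt ((ModuleCat.extendScalars αI.hom).obj M))
  {j : J} (y : Fin n → ((ModuleCat.extendScalars (α j).hom).obj M))
  (μ : Fin n → (M →ₗ[A] ↑(Q₀ α j)))
  (hy : ∀ i, trIE α hαn αI hα M j (y i) = b i)
  (hμ : ∀ k, ιQ α hαn αI hα j ∘ₗ μ k = coordL αI M b k)

include hc hy hμ in
theorem exists_eq1 : ∃ (j' : J) (f : j ⟶ j'), ∀ k i,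
    extG (α j').hom M (tQ α hαn f ∘ₗ μ k) (trE α hαn M f (y i)) =
      if k = i then 1 else 0 := by
  classical
  have key : ∀ k i, (c.ι.app j).hom (extG (α j).hom M (μ k) (y i)) =
      (c.ι.app j).hom (if k = i then 1 else 0) := by
    intro k i
    rw [← extG_trIE α hαn αI hα M j (μ k) (y i), hμ, hy, extG_coordL, Module.Basis.coord_apply,
      Module.Basis.repr_self, Finsupp.single_apply]
    split_ifs with h1 h2 h2
    · exact (map_one _).symm
    · exact absurd h1.symm h2
    · exact absurd h2.symm h1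
    · exact (map_zero _).symm
  obtain ⟨j', f, hf⟩ := exists_common_under j (Finset.univ : Finset (Fin n × Fin n))
    (fun j' g p => (R.map g).hom (extG (α j).hom M (μ p.1) (y p.2)) =
      (R.map g).hom (if p.1 = p.2 then 1 else 0))
    (fun j' g j'' a p hp => by
      rw [R.map_comp]
      exact congrArg (R.map a).hom hp)
    (fun p _ => exists_map_eq_of_ι_eq hc _ _ (key p.1 p.2))
  refine ⟨j', f, fun k i => ?_⟩
  rw [extG_trE, hf (k, i) (Finset.mem_univ _)]
  split_ifs
  · exact map_one _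
  · exact map_zero _

include hc hy hμ in
theorem exists_eq2 (s : Finset M) : ∃ (j' : J) (f : j ⟶ j'), ∀ m ∈ s,
    oneE (α j').hom m = ∑ i, (show R.obj j' from (tQ α hαn f ∘ₗ μ i) m) •
      trE α hαn M f (y i) := by
  classical
  have key : ∀ m : M, trIE α hαn αI hα M j (oneE (α j).hom m) =
      trIE α hαn αI hα M j (∑ i, (show R.obj j from μ i m) • y i) := by
    intro m
    rw [trIE_oneE, map_sum]
    refine (b.sum_repr (oneE αI.hom m)).symm.trans (Finset.sum_congr rfl fun i _ => ?_)
    rw [trIE_smul, hy]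
    congr 1
    have := LinearMap.congr_fun (hμ i) m
    exact (congrArg (fun t => (show c.pt from t)) this).symm
  obtain ⟨j', f, hf⟩ := exists_common_under j s
    (fun j' g m => trE α hαn M g (oneE (α j).hom m) =
      trE α hαn M g (∑ i, (show R.obj j from μ i m) • y i))
    (fun j' g j'' a m hm => by
      rw [trE_comp, trE_comp, hm])
    (fun m _ => by
      obtain ⟨k, f, hk⟩ := exists_of_rep_eq hc α hαn αI hα M
        (show ↑((Q α hαn).obj j ⊗ M : ModuleCat.{u} A) from oneE (α j).hom m)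
        (show ↑((Q α hαn).obj j ⊗ M : ModuleCat.{u} A) from
          ∑ i, (show R.obj j from μ i m) • y i) (key m)
      exact ⟨k, f, hk⟩)
  refine ⟨j', f, fun m hm => ?_⟩
  have h1 := hf m hm
  rw [trE_oneE, map_sum] at h1
  rw [h1]
  refine Finset.sum_congr rfl fun i _ => ?_
  rw [trE_smul]
  rfl

include hy hμ in
theorem good_transport {j' : J} (f : j ⟶ j') :
    (∀ i, trIE α hαn αI hα M j' (trE α hαn M f (y i)) = b i) ∧
    (∀ k, ιQ α hαn αI hα j' ∘ₗ (tQ α hαn f ∘ₗ μ k) = coordL αI M b k) := by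
  refine ⟨fun i => by rw [trE_trIE, hy], fun k => ?_⟩
  rw [← LinearMap.comp_assoc, ιQ_comp_map, hμ k]

end Exists

include hc hαn hα in
/-- **A basis of `c.pt ⊗ M` descends to `R j ⊗ M` for all large `j`** (`M` finitely presented). -/
theorem exists_basis_of_colimit [Module.FinitePresentation A M] {n : ℕ}
    (b : Module.Basis (Fin n) c.pt ((ModuleCat.extendScalars αI.hom).obj M)) :
    ∃ j : J, ∀ (j' : J) (_ : j ⟶ j'),
      Nonempty (Module.Basis (Fin n) (R.obj j') ((ModuleCat.extendScalars (α j').hom).obj M)) := by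
  classical
  -- Step 1: lifts of the basis vectors and of the coordinate functionals
  have hY : ∀ i : Fin n, ∃ (ji : J) (yi : ((ModuleCat.extendScalars (α ji).hom).obj M)),
      trIE α hαn αI hα M ji yi = b i := by
    intro i
    obtain ⟨ji, yi, hyi⟩ := exists_rep hc α hαn αI hα M
      (show ↑((cQ α hαn αI hα).pt ⊗ M : ModuleCat.{u} A) from b i)
    exact ⟨ji, yi, hyi⟩
  have hM : ∀ k : Fin n, ∃ (ψ : Jᵒᵖ) (μk : M →ₗ[A] ↑(Q₀ α ψ.unop)),
      ιQ α hαn αI hα ψ.unop ∘ₗ μk = coordL αI M b k := by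
    intro k
    refine exists_lift_of_finitePresentation (C := Jᵒᵖ) (A := A)
      (P := fun ψ => ↑(Q₀ α ψ.unop)) (Pl := ↑(QI αI))
      (fun {ψ ψ'} g => tQ α hαn g.unop) (fun ψ => ιQ α hαn αI hα ψ.unop)
      ?_ ?_ ?_ ?_ (coordL αI M b k)
    · intro ψ ψ' ψ'' g g'
      rw [unop_comp]
      exact tQ_comp α hαn g.unop g'.unop
    · intro ψ ψ' g
      exact ιQ_comp_map α hαn αI hα g.unop
    · intro p
      obtain ⟨j, x, hx⟩ := Concrete.isColimit_exists_rep R hc (show c.pt from p)
      exact ⟨Opposite.op j, x, hx⟩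
    · intro ψ p₁ p₂ h
      obtain ⟨j', f, hf⟩ := exists_map_eq_of_ι_eq hc (show R.obj ψ.unop from p₁)
        (show R.obj ψ.unop from p₂) h
      exact ⟨Opposite.op j', f.op, hf⟩
  choose jy y₀ hy₀ using hY
  choose ψμ μ₀ hμ₀ using hM
  -- Step 2: a common stage
  obtain ⟨S, hS⟩ := IsFiltered.sup_objs_exists
    (Finset.univ.image jy ∪ Finset.univ.image fun k => (ψμ k).unop)
  have hSy : ∀ i, Nonempty (jy i ⟶ S) := fun i =>
    hS (Finset.mem_union_left _ (Finset.mem_image_of_mem jy (Finset.mem_univ i)))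
  have hSμ : ∀ k, Nonempty ((ψμ k).unop ⟶ S) := fun k =>
    hS (Finset.mem_union_right _ (Finset.mem_image_of_mem (fun k => (ψμ k).unop)
      (Finset.mem_univ k)))
  obtain ⟨y₁, hy₁⟩ : ∃ y₁ : Fin n → ((ModuleCat.extendScalars (α S).hom).obj M),
      ∀ i, trIE α hαn αI hα M S (y₁ i) = b i :=
    ⟨fun i => trE α hαn M (hSy i).some (y₀ i), fun i =>
      (trE_trIE α hαn αI hα M (hSy i).some (y₀ i)).trans (hy₀ i)⟩
  obtain ⟨μ₁, hμ₁⟩ : ∃ μ₁ : Fin n → (M →ₗ[A] ↑(Q₀ α S)),
      ∀ k, ιQ α hαn αI hα S ∘ₗ μ₁ k = coordL αI M b k :=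
    ⟨fun k => tQ α hαn (hSμ k).some ∘ₗ μ₀ k, fun k => by
      rw [← LinearMap.comp_assoc, ιQ_comp_map, hμ₀]⟩
  -- Step 3: the equations
  obtain ⟨j₁, f₁, h1⟩ := exists_eq1 hc α hαn αI hα M b y₁ μ₁ hy₁ hμ₁
  obtain ⟨hy₂, hμ₂⟩ := good_transport α hαn αI hα M b y₁ μ₁ hy₁ hμ₁ f₁
  obtain ⟨s, hs⟩ := (Module.Finite.fg_top : (⊤ : Submodule A M).FG)
  obtain ⟨j₂, f₂, h2⟩ := exists_eq2 hc α hαn αI hα M b _ _ hy₂ hμ₂ s
  refine ⟨j₂, fun j' g => ?_⟩
  refine nonempty_basis_of_data (α j').hom M
    (fun i => trE α hαn M g (trE α hαn M f₂ (trE α hαn M f₁ (y₁ i))))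
    (fun k => tQ α hαn g ∘ₗ (tQ α hαn f₂ ∘ₗ
      (tQ α hαn f₁ ∘ₗ μ₁ k))) ?_ (s : Set M) hs ?_
  · intro k i
    exact eq1_persist α hαn M g _ _ (eq1_persist α hαn M f₂ _ _ h1) k i
  · intro m hm
    exact eq2_persist α hαn M g _ _ m (h2 m hm)

end Dynamic

end Groth.Agent.H24.HomLim
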