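import Mathlib
import Groth.Agent.H44.CotangentExact
import Groth.Agent.H44.HomOfBasis

/-!
# Extending linear maps on sections of a quasi-coherent module to smaller affine opens (helper24)

For `F` quasi-coherent on `X`, affine opens `U ≤ V` and any `O_X`-module `N`: the sections `Γ(F, U)`
are generated over `Γ(X, U)` by the restrictions of `Γ(F, V)` (`span_range_res`), and every
`Γ(X, V)`-linear map `μ : Γ(F, V) → Γ(N, V)` extends uniquely to a `Γ(X, U)`-linear map
`extLin μ : Γ(F, U) → Γ(N, U)` compatible with the restrictions.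
-/

set_option autoImplicit false
universe u
open CategoryTheory AlgebraicGeometry Scheme.Modules TopologicalSpace TensorProduct

namespace Groth.Agent.H24.HomLim

variable {X : Scheme.{u}}

theorem pullbackId_hom_pullSectLE (F : X.Modules) {U V : X.Opens} (h : U ≤ (𝟙 X) ⁻¹ᵁ V)
    (m : Γ(F, V)) :
    ((pullbackId X).hom.app F).app U (Groth.Agent.H44.pullSectLE (𝟙 X) F V U h m) =
      F.presheaf.map (homOfLE (show U ≤ V from h)).op m := by
  unfold Groth.Agent.H44.pullSectLE
  rw [Groth.Agent.H44.hom_app_resLE]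
  erw [Groth.Agent.H44.pullbackId_hom_app_pullSect]
  rfl

section Span

variable (F : X.Modules) [F.IsQuasicoherent] {U V : X.Opens} (hU : IsAffineOpen U)
  (hV : IsAffineOpen V) (h : U ≤ V)

include hU hV in
/-- Sections of a quasi-coherent module over an affine open `U ≤ V` are generated by the
restrictions of the sections over the affine open `V`. -/
theorem span_range_res :
    Submodule.span Γ(X, U) (Set.range fun m : Γ(F, V) => F.presheaf.map (homOfLE h).op m) = ⊤ := by
  rw [eq_top_iff]
  intro x _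
  have e : U ≤ (𝟙 X) ⁻¹ᵁ V := h
  letI := (Scheme.Hom.appLE (𝟙 X) V U e).hom.toAlgebra
  obtain ⟨E, hE⟩ : ∃ E : Γ((pullback (𝟙 X)).obj F, U) ≃ₗ[Γ(X, U)] Γ(X, U) ⊗[Γ(X, V)] Γ(F, V),
      E = Groth.Agent.H44.pullbackSectionsEquiv (𝟙 X) F hU hV e := ⟨_, rfl⟩
  have key : ∀ z : Γ(X, U) ⊗[Γ(X, V)] Γ(F, V),
      ((pullbackId X).hom.app F).app U (E.symm z) ∈
        Submodule.span Γ(X, U) (Set.range fun m : Γ(F, V) => F.presheaf.map (homOfLE h).op m) := by
    intro z
    induction z using TensorProduct.induction_on with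
    | zero => rw [map_zero, map_zero]; exact Submodule.zero_mem _
    | tmul r m =>
      have h1 : r ⊗ₜ[Γ(X, V)] m = r • ((1 : Γ(X, U)) ⊗ₜ[Γ(X, V)] m) := by
        rw [TensorProduct.smul_tmul', smul_eq_mul, mul_one]
      have h2 : E (Groth.Agent.H44.pullSectLE (𝟙 X) F V U e m) = (1 : Γ(X, U)) ⊗ₜ[Γ(X, V)] m := by
        rw [hE]
        exact Groth.Agent.H44.pullbackSectionsEquiv_pullSectLE (𝟙 X) F hU hV e m
      have h4 : E.symm (r • ((1 : Γ(X, U)) ⊗ₜ[Γ(X, V)] m)) =
          r • Groth.Agent.H44.pullSectLE (𝟙 X) F V U e m := by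
        rw [← h2, ← LinearEquiv.map_smul]
        exact E.symm_apply_apply _
      rw [h1, h4, Scheme.Modules.Hom.app_smul, pullbackId_hom_pullSectLE]
      exact Submodule.smul_mem _ _ (Submodule.subset_span ⟨m, rfl⟩)
    | add a b ha hb => rw [map_add, map_add]; exact Submodule.add_mem _ ha hb
  have h3 := key (E (((pullbackId X).inv.app F).app U x))
  have h5 : ((pullbackId X).hom.app F).app U (E.symm (E (((pullbackId X).inv.app F).app U x))) =
      x := by
    rw [E.symm_apply_apply, ← ConcreteCategory.comp_apply, ← Scheme.Modules.Hom.comp_app,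
      Iso.inv_hom_id_app]
    rfl
  rwa [h5] at h3

end Span

section ExtLin

variable (F : X.Modules) [F.IsQuasicoherent] (N : X.Modules) {U V : X.Opens} (hU : IsAffineOpen U)
  (hV : IsAffineOpen V) (h : U ≤ V) (μ : Γ(F, V) →ₗ[Γ(X, V)] Γ(N, V))

include hU hV in
theorem exists_extLin : ∃ ν : Γ(F, U) →ₗ[Γ(X, U)] Γ(N, U),
    ∀ m : Γ(F, V), ν (F.presheaf.map (homOfLE h).op m) = N.presheaf.map (homOfLE h).op (μ m) := by
  have e : U ≤ (𝟙 X) ⁻¹ᵁ V := h
  letI := (Scheme.Hom.appLE (𝟙 X) V U e).hom.toAlgebra
  obtain ⟨E, hE⟩ : ∃ E : Γ((pullback (𝟙 X)).obj F, U) ≃ₗ[Γ(X, U)] Γ(X, U) ⊗[Γ(X, V)] Γ(F, V),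
      E = Groth.Agent.H44.pullbackSectionsEquiv (𝟙 X) F hU hV e := ⟨_, rfl⟩
  have halg : ∀ a : Γ(X, V), algebraMap Γ(X, V) Γ(X, U) a = X.presheaf.map (homOfLE h).op a := by
    intro a
    change (Scheme.Hom.appLE (𝟙 X) V U e).hom a = _
    simp [Scheme.Hom.appLE]
    rfl
  let B : Γ(X, U) →+ Γ(F, V) →+ Γ(N, U) :=
    AddMonoidHom.mk' (fun r => AddMonoidHom.mk'
      (fun m => r • N.presheaf.map (homOfLE h).op (μ m))
      (fun m m' => by rw [_root_.map_add, _root_.map_add, smul_add]))
      (fun r r' => by ext m; exact add_smul r r' _)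
  have hB : ∀ (a : Γ(X, V)) (r : Γ(X, U)) (m : Γ(F, V)), B (a • r) m = B r (a • m) := by
    intro a r m
    change (a • r) • N.presheaf.map (homOfLE h).op (μ m) =
      r • N.presheaf.map (homOfLE h).op (μ (a • m))
    rw [_root_.map_smul μ, Groth.Agent.H44.presheaf_map_smul, Algebra.smul_def, halg, mul_comm,
      mul_smul]
  obtain ⟨L, hL0⟩ : ∃ L : Γ(X, U) ⊗[Γ(X, V)] Γ(F, V) →+ Γ(N, U),
      ∀ r m, L (r ⊗ₜ m) = r • N.presheaf.map (homOfLE h).op (μ m) :=
    ⟨TensorProduct.liftAddHom B hB, fun r m => TensorProduct.liftAddHom_tmul B hB r m⟩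
  have hL : ∀ (r : Γ(X, U)) (z : Γ(X, U) ⊗[Γ(X, V)] Γ(F, V)), L (r • z) = r • L z := by
    intro r z
    induction z using TensorProduct.induction_on with
    | zero => rw [smul_zero, _root_.map_zero, smul_zero]
    | tmul r' m => rw [TensorProduct.smul_tmul', hL0, hL0, smul_eq_mul, mul_smul]
    | add a b ha hb => rw [smul_add, _root_.map_add, _root_.map_add, ha, hb, smul_add]
  refine ⟨{ toFun := fun x => L (E (((pullbackId X).inv.app F).app U x))
            map_add' := fun x y => by rw [_root_.map_add, _root_.map_add, _root_.map_add]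
            map_smul' := fun r x => by
              rw [Scheme.Modules.Hom.app_smul, LinearEquiv.map_smul, hL]
              rfl }, ?_⟩
  intro m
  have h1 : ((pullbackId X).inv.app F).app U (F.presheaf.map (homOfLE h).op m) =
      Groth.Agent.H44.pullSectLE (𝟙 X) F V U e m := by
    rw [← pullbackId_hom_pullSectLE F e m, ← ConcreteCategory.comp_apply,
      ← Scheme.Modules.Hom.comp_app, Iso.hom_inv_id_app]
    rfl
  have h2 : E (Groth.Agent.H44.pullSectLE (𝟙 X) F V U e m) = (1 : Γ(X, U)) ⊗ₜ[Γ(X, V)] m := by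
    rw [hE]
    exact Groth.Agent.H44.pullbackSectionsEquiv_pullSectLE (𝟙 X) F hU hV e m
  change L (E (((pullbackId X).inv.app F).app U (F.presheaf.map (homOfLE h).op m))) = _
  rw [h1, h2, hL0, one_smul]

/-- The unique `Γ(X, U)`-linear extension of `μ` to the affine open `U ≤ V`. -/
noncomputable def extLin : Γ(F, U) →ₗ[Γ(X, U)] Γ(N, U) := (exists_extLin F N hU hV h μ).choose

theorem extLin_res (m : Γ(F, V)) :
    extLin F N hU hV h μ (F.presheaf.map (homOfLE h).op m) = N.presheaf.map (homOfLE h).op (μ m) :=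
  (exists_extLin F N hU hV h μ).choose_spec m

end ExtLin

section Induction

variable (F : X.Modules) [F.IsQuasicoherent] {U V : X.Opens} (hU : IsAffineOpen U)
  (hV : IsAffineOpen V) (h : U ≤ V)

include hU hV in
/-- Induction principle: a property of sections over `U` which is additive, stable under scalars
and holds for restrictions from `V` holds for all sections. -/
theorem induction_res {p : Γ(F, U) → Prop} (h0 : p 0) (hadd : ∀ x y, p x → p y → p (x + y))
    (hsmul : ∀ (r : Γ(X, U)) x, p x → p (r • x))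
    (hres : ∀ m : Γ(F, V), p (F.presheaf.map (homOfLE h).op m)) (x : Γ(F, U)) : p x := by
  have hx : x ∈ Submodule.span Γ(X, U)
      (Set.range fun m : Γ(F, V) => F.presheaf.map (homOfLE h).op m) := by
    rw [span_range_res F hU hV h]; trivial
  induction hx using Submodule.span_induction with
  | mem y hy => obtain ⟨m, rfl⟩ := hy; exact hres m
  | zero => exact h0
  | add y z _ _ hy hz => exact hadd y z hy hz
  | smul r y _ hy => exact hsmul r y hy

end Induction

/-- The `Γ(X, U)`-linear map of sections of a morphism of modules. -/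
noncomputable def appLin {M N : X.Modules} (θ : M ⟶ N) (U : X.Opens) :
    Γ(M, U) →ₗ[Γ(X, U)] Γ(N, U) where
  toFun x := θ.app U x
  map_add' x y := _root_.map_add _ x y
  map_smul' r x := Scheme.Modules.Hom.app_smul θ r x

@[simp] theorem appLin_apply {M N : X.Modules} (θ : M ⟶ N) (U : X.Opens) (x : Γ(M, U)) :
    appLin θ U x = θ.app U x := rfl

section Props

variable (F : X.Modules) [F.IsQuasicoherent] (N : X.Modules) {U V : X.Opens} (hU : IsAffineOpen U)
  (hV : IsAffineOpen V) (h : U ≤ V) (μ : Γ(F, V) →ₗ[Γ(X, V)] Γ(N, V))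

theorem extLin_self : extLin F N hV hV le_rfl μ = μ := by
  ext m
  have := extLin_res F N hV hV le_rfl μ m
  rwa [Groth.Agent.H44.resM_refl, Groth.Agent.H44.resM_refl] at this

/-- Naturality of the extension in the open. -/
theorem extLin_map {U' : X.Opens} (hU' : IsAffineOpen U') (h' : U' ≤ U) (x : Γ(F, U)) :
    N.presheaf.map (homOfLE h').op (extLin F N hU hV h μ x) =
      extLin F N hU' hV (h'.trans h) μ (F.presheaf.map (homOfLE h').op x) := by
  induction x using induction_res F hU hV h with
  | h0 => simp only [_root_.map_zero]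
  | hadd x y hx hy => simp only [_root_.map_add, hx, hy]
  | hsmul r x hx =>
    rw [LinearMap.map_smul, Groth.Agent.H44.presheaf_map_smul, Groth.Agent.H44.presheaf_map_smul,
      LinearMap.map_smul, hx]
  | hres m =>
    rw [extLin_res, Groth.Agent.H44.resM_comp, Groth.Agent.H44.resM_comp, extLin_res]

/-- Transitivity of the extension. -/
theorem extLin_extLin {U' : X.Opens} (hU' : IsAffineOpen U') (h' : U' ≤ U) :
    extLin F N hU' hU h' (extLin F N hU hV h μ) = extLin F N hU' hV (h'.trans h) μ := by
  ext x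
  induction x using induction_res F hU' hU h' with
  | h0 => simp only [_root_.map_zero]
  | hadd x y hx hy => simp only [_root_.map_add, hx, hy]
  | hsmul r x hx => rw [LinearMap.map_smul, LinearMap.map_smul, hx]
  | hres m => rw [extLin_res, extLin_map]

/-- Compatibility of the extension with post-composition. -/
theorem extLin_comp {N' : X.Modules} (κ : N ⟶ N') :
    (appLin κ U).comp (extLin F N hU hV h μ) = extLin F N' hU hV h ((appLin κ V).comp μ) := by
  ext x
  induction x using induction_res F hU hV h with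
  | h0 => simp only [_root_.map_zero]
  | hadd x y hx hy => simp only [_root_.map_add, hx, hy]
  | hsmul r x hx => rw [LinearMap.map_smul, LinearMap.map_smul, hx]
  | hres m =>
    rw [extLin_res, LinearMap.comp_apply, extLin_res, LinearMap.comp_apply, appLin_apply,
      appLin_apply, Groth.Agent.H44.hom_app_resLE]

/-- The extension of the sections of a global morphism. -/
theorem extLin_appLin (θ : F ⟶ N) : extLin F N hU hV h (appLin θ V) = appLin θ U := by
  ext x
  induction x using induction_res F hU hV h with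
  | h0 => simp only [_root_.map_zero]
  | hadd x y hx hy => simp only [_root_.map_add, hx, hy]
  | hsmul r x hx => rw [LinearMap.map_smul, LinearMap.map_smul, hx]
  | hres m => rw [extLin_res, appLin_apply, appLin_apply, Groth.Agent.H44.hom_app_resLE]

end Props

end Groth.Agent.H24.HomLim
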