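import Mathlib
import Groth.Agent.H24.HomLim.Ext

/-!
# Gluing morphisms out of a quasi-coherent module from linear maps on an affine cover (helper24)

`exists_hom_of_affine_cover`: for `F` quasi-coherent and `N` any `O_X`-module, linear maps
`μ k : Γ(F, V k) → Γ(N, V k)` on an affine open cover whose extensions agree locally on the overlaps
glue to a morphism `F ⟶ N`.  `hom_ext_of_affine_cover`: uniqueness.
-/

set_option autoImplicit false
universe u
open CategoryTheory AlgebraicGeometry Scheme.Modules TopologicalSpace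

namespace Groth.Agent.H24.HomLim

variable {X : Scheme.{u}} (F : X.Modules) [F.IsQuasicoherent] (N : X.Modules)
  {ι : Type*} (Vs : ι → X.Opens) (hVs : ∀ k, IsAffineOpen (Vs k))

include hVs in
/-- Two morphisms out of a quasi-coherent module which agree on the sections over the members of
an affine open cover are equal. -/
theorem hom_ext_of_affine_cover (hcov : ∀ x : X, ∃ k, x ∈ Vs k) (θ θ' : F ⟶ N)
    (h : ∀ k (m : Γ(F, Vs k)), θ.app (Vs k) m = θ'.app (Vs k) m) : θ = θ' := by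
  refine Scheme.Modules.hom_ext _ _ fun O => ?_
  ext s
  refine Groth.Agent.H44.modules_section_ext N _ _ fun x hx => ?_
  obtain ⟨k, hk⟩ := hcov x
  obtain ⟨_, ⟨U, hU : IsAffineOpen U, rfl⟩, hxU, hUO⟩ :=
    X.isBasis_affineOpens.exists_subset_of_mem_open (show x ∈ ((O ⊓ Vs k : X.Opens) : Set X) from
      ⟨hx, hk⟩) (O ⊓ Vs k).2
  have hUO' : U ≤ O := fun y hy => (hUO hy).1
  have hUV : U ≤ Vs k := fun y hy => (hUO hy).2
  refine ⟨U, hUO', hxU, ?_⟩
  rw [← Groth.Agent.H44.hom_app_resLE, ← Groth.Agent.H44.hom_app_resLE]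
  have e1 : appLin θ (Vs k) = appLin θ' (Vs k) := LinearMap.ext (h k)
  have e2 := extLin_appLin F N hU (hVs k) hUV θ
  have e3 := extLin_appLin F N hU (hVs k) hUV θ'
  rw [e1] at e2
  have e4 : appLin θ U = appLin θ' U := e2.symm.trans e3
  exact LinearMap.congr_fun e4 _

variable (μ : ∀ k, Γ(F, Vs k) →ₗ[Γ(X, Vs k)] Γ(N, Vs k))

/-- The extensions of the `μ k` to a common smaller affine open agree, provided they agree locally
on the overlaps. -/
theorem extLin_eq_of_compat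
    (hcompat : ∀ k l (x : X), x ∈ Vs k → x ∈ Vs l → ∃ (W : X.Opens) (hW : IsAffineOpen W)
      (hk : W ≤ Vs k) (hl : W ≤ Vs l), x ∈ W ∧
        extLin F N hW (hVs k) hk (μ k) = extLin F N hW (hVs l) hl (μ l))
    {U : X.Opens} (hU : IsAffineOpen U) {k l : ι} (hk : U ≤ Vs k) (hl : U ≤ Vs l) :
    extLin F N hU (hVs k) hk (μ k) = extLin F N hU (hVs l) hl (μ l) := by
  ext s
  refine Groth.Agent.H44.modules_section_ext N _ _ fun x hx => ?_
  obtain ⟨W, hW, hWk, hWl, hxW, hWeq⟩ := hcompat k l x (hk hx) (hl hx)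
  obtain ⟨_, ⟨U', hU' : IsAffineOpen U', rfl⟩, hxU', hU'UW⟩ :=
    X.isBasis_affineOpens.exists_subset_of_mem_open (show x ∈ ((U ⊓ W : X.Opens) : Set X) from
      ⟨hx, hxW⟩) (U ⊓ W).2
  have hU'U : U' ≤ U := fun y hy => (hU'UW hy).1
  have hU'W : U' ≤ W := fun y hy => (hU'UW hy).2
  refine ⟨U', hU'U, hxU', ?_⟩
  rw [extLin_map F N hU (hVs k) hk (μ k) hU' hU'U, extLin_map F N hU (hVs l) hl (μ l) hU' hU'U]
  have e1 := extLin_extLin F N hW (hVs k) hWk (μ k) hU' hU'W
  have e2 := extLin_extLin F N hW (hVs l) hWl (μ l) hU' hU'W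
  rw [hWeq] at e1
  exact LinearMap.congr_fun (e1.symm.trans e2) _

/-- **Gluing**: linear maps on the sections over the members of an affine open cover, whose
extensions agree locally on the overlaps, glue to a morphism out of the quasi-coherent module. -/
theorem exists_hom_of_affine_cover (hcov : ∀ x : X, ∃ k, x ∈ Vs k)
    (hcompat : ∀ k l (x : X), x ∈ Vs k → x ∈ Vs l → ∃ (W : X.Opens) (hW : IsAffineOpen W)
      (hk : W ≤ Vs k) (hl : W ≤ Vs l), x ∈ W ∧
        extLin F N hW (hVs k) hk (μ k) = extLin F N hW (hVs l) hl (μ l)) :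
    ∃ θ : F ⟶ N, ∀ k (m : Γ(F, Vs k)), θ.app (Vs k) m = μ k m := by
  classical
  let J : Type _ := {p : X.Opens × ι // IsAffineOpen p.1 ∧ p.1 ≤ Vs p.2}
  let B : J → X.Opens := fun p => p.1.1
  have hB : Opens.IsBasis (Set.range B) := by
    rw [Opens.isBasis_iff_nbhd]
    intro O x hx
    obtain ⟨k, hk⟩ := hcov x
    obtain ⟨_, ⟨U, hU : IsAffineOpen U, rfl⟩, hxU, hUO⟩ :=
      X.isBasis_affineOpens.exists_subset_of_mem_open (show x ∈ ((O ⊓ Vs k : X.Opens) : Set X) from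
        ⟨hx, hk⟩) (O ⊓ Vs k).2
    exact ⟨U, ⟨⟨(U, k), hU, fun y hy => (hUO hy).2⟩, rfl⟩, hxU, fun y hy => (hUO hy).1⟩
  let φ : ∀ p : J, Γ(F, B p) →ₗ[Γ(X, B p)] Γ(N, B p) := fun p =>
    extLin F N p.2.1 (hVs p.1.2) p.2.2 (μ p.1.2)
  have hφ : ∀ (p q : J) (h : B q ≤ B p) (m : Γ(F, B p)),
      φ q (F.presheaf.map (homOfLE h).op m) = N.presheaf.map (homOfLE h).op (φ p m) := by
    intro p q h m
    have e1 := extLin_map F N p.2.1 (hVs p.1.2) p.2.2 (μ p.1.2) q.2.1 h m
    rw [e1]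
    exact LinearMap.congr_fun (extLin_eq_of_compat F N Vs hVs μ hcompat q.2.1 q.2.2
      (h.trans p.2.2)) _
  refine ⟨Groth.Agent.H44.homOfBasis B hB φ hφ, fun k m => ?_⟩
  have e2 := Groth.Agent.H44.homOfBasis_app B hB φ hφ ⟨(Vs k, k), hVs k, le_rfl⟩ m
  refine e2.trans ?_
  exact LinearMap.congr_fun (extLin_self F N (hVs k) (μ k)) m

end Groth.Agent.H24.HomLim
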