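import Mathlib
import Groth.Agent.H44.PullUnit

/-!
# Transition maps between the modules `t_* t^* G` (helper24)

For `t : T ⟶ S` and an `O_S`-module `G` put `PP t G = t_* t^* G`.  For `u : T' ⟶ T` and `t' = u ≫ t`
there is a canonical morphism `kappa : PP t G ⟶ PP t' G` of `O_S`-modules ("pull sections back
along `u`").  We record its behaviour on pulled-back sections, its semilinearity, transitivity, and
the relation with the adjoint transposes of base-changed morphisms `t^* F ⟶ t^* G`.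
-/

set_option autoImplicit false
universe u
open CategoryTheory AlgebraicGeometry Scheme.Modules TopologicalSpace

namespace Groth.Agent.H24.HomLim

section Adj

variable {X Y : Scheme.{u}} (f : X ⟶ Y)

/-- The adjoint transpose of `x : f^* F ⟶ N` on sections. -/
theorem homEquiv_app {F : Y.Modules} {N : X.Modules} (x : (pullback f).obj F ⟶ N) (V : Y.Opens)
    (m : Γ(F, V)) :
    ((pullbackPushforwardAdjunction f).homEquiv F N x).app V m =
      x.app (f ⁻¹ᵁ V) (OmegaSh.pullSect f F V m) := by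
  rw [Adjunction.homEquiv_unit]
  rfl

/-- Morphisms out of a pullback are determined by their values on pulled-back sections. -/
theorem hom_ext_pullSect {F : Y.Modules} {N : X.Modules} (x y : (pullback f).obj F ⟶ N)
    (h : ∀ (V : Y.Opens) (m : Γ(F, V)),
      x.app (f ⁻¹ᵁ V) (OmegaSh.pullSect f F V m) = y.app (f ⁻¹ᵁ V) (OmegaSh.pullSect f F V m)) :
    x = y := by
  apply ((pullbackPushforwardAdjunction f).homEquiv F N).injective
  refine Scheme.Modules.hom_ext _ _ fun V => ?_
  ext m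
  rw [homEquiv_app, homEquiv_app]
  exact h V m

end Adj

section Kappa

variable {S T T' : Scheme.{u}} (u : T' ⟶ T) (t : T ⟶ S) (t' : T' ⟶ S) (e : u ≫ t = t')
  (G : S.Modules)

/-- The canonical isomorphism `u^* t^* G ≅ t'^* G` for `t' = u ≫ t`. -/
noncomputable def compIso : (pullback u).obj ((pullback t).obj G) ≅ (pullback t').obj G :=
  (pullbackComp u t ≪≫ pullbackCongr e).app G

/-- The module `t_* t^* G` on `S`. -/
noncomputable abbrev PP (t : T ⟶ S) (G : S.Modules) : S.Modules :=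
  (pushforward t).obj ((pullback t).obj G)

include e in
theorem preimage_le (V : S.Opens) : t' ⁻¹ᵁ V ≤ u ⁻¹ᵁ (t ⁻¹ᵁ V) := by
  rw [← e]
  exact le_of_eq (Scheme.Hom.comp_preimage _ _ _)

theorem compIso_hom_pullSect (V : S.Opens) (n : Γ(G, V)) :
    (compIso u t t' e G).hom.app (t' ⁻¹ᵁ V)
      (Groth.Agent.H44.pullSectLE u ((pullback t).obj G) (t ⁻¹ᵁ V) (t' ⁻¹ᵁ V) (preimage_le u t t' e V)
        (OmegaSh.pullSect t G V n)) = OmegaSh.pullSect t' G V n := by
  subst e
  have h1 := Groth.Agent.H44.pullbackComp_hom_app u t G V (t ⁻¹ᵁ V) ((u ≫ t) ⁻¹ᵁ V) le_rfl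
    (preimage_le u t _ rfl V) n
  rw [Groth.Agent.H44.pullSectLE_self, Groth.Agent.H44.pullSectLE_self] at h1
  simp only [compIso, Iso.trans_hom, Iso.app_hom, NatTrans.comp_app, Scheme.Modules.Hom.comp_app,
    ConcreteCategory.comp_apply]
  rw [h1]
  simp [pullbackCongr]
  rfl

theorem compIso_inv_pullSect (V : S.Opens) (n : Γ(G, V)) :
    (compIso u t t' e G).inv.app (t' ⁻¹ᵁ V) (OmegaSh.pullSect t' G V n) =
      Groth.Agent.H44.pullSectLE u ((pullback t).obj G) (t ⁻¹ᵁ V) (t' ⁻¹ᵁ V) (preimage_le u t t' e V)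
        (OmegaSh.pullSect t G V n) := by
  rw [← compIso_hom_pullSect u t t' e G V n, ← ConcreteCategory.comp_apply,
    ← Scheme.Modules.Hom.comp_app, Iso.hom_inv_id]
  rfl

/-- `κ̃ : t^* G ⟶ u_* t'^* G`. -/
noncomputable def kappaT : (pullback t).obj G ⟶ (pushforward u).obj ((pullback t').obj G) :=
  (pullbackPushforwardAdjunction u).homEquiv _ _ (compIso u t t' e G).hom

theorem kappaT_app (W : T.Opens) (s : Γ((pullback t).obj G, W)) :
    (kappaT u t t' e G).app W s =
      (compIso u t t' e G).hom.app (u ⁻¹ᵁ W) (OmegaSh.pullSect u ((pullback t).obj G) W s) :=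
  homEquiv_app u _ W s

/-- `κ : t_* t^* G ⟶ t'_* t'^* G`. -/
noncomputable def kappa : PP t G ⟶ PP t' G :=
  (pushforward t).map (kappaT u t t' e G) ≫ (pushforwardComp u t).hom.app _ ≫
    (pushforwardCongr e).hom.app _

theorem kappa_app (V : S.Opens) (s : Γ((pullback t).obj G, t ⁻¹ᵁ V)) :
    (kappa u t t' e G).app V s =
      ((pullback t').obj G).presheaf.map (homOfLE (preimage_le u t t' e V)).op
        ((kappaT u t t' e G).app (t ⁻¹ᵁ V) s) := by
  subst e
  simp only [kappa, Scheme.Modules.Hom.comp_app, pushforward_map_app,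
    pushforwardComp_hom_app_app, pushforwardCongr_hom_app_app, ConcreteCategory.comp_apply]
  rfl

/-- `κ` in terms of pulled-back sections. -/
theorem kappa_app' (V : S.Opens) (s : Γ((pullback t).obj G, t ⁻¹ᵁ V)) :
    (kappa u t t' e G).app V s =
      (compIso u t t' e G).hom.app (t' ⁻¹ᵁ V)
        (Groth.Agent.H44.pullSectLE u ((pullback t).obj G) (t ⁻¹ᵁ V) (t' ⁻¹ᵁ V)
          (preimage_le u t t' e V) s) := by
  rw [kappa_app, kappaT_app, ← Groth.Agent.H44.hom_app_resLE]
  rfl

theorem kappa_pullSect (V : S.Opens) (n : Γ(G, V)) :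
    (kappa u t t' e G).app V (OmegaSh.pullSect t G V n) = OmegaSh.pullSect t' G V n := by
  rw [kappa_app']
  exact compIso_hom_pullSect u t t' e G V n

theorem kappa_smul (V : S.Opens) (r : Γ(T, t ⁻¹ᵁ V)) (s : Γ((pullback t).obj G, t ⁻¹ᵁ V)) :
    (kappa u t t' e G).app V (r • s) =
      (u.appLE (t ⁻¹ᵁ V) (t' ⁻¹ᵁ V) (preimage_le u t t' e V) r) •
        (show Γ((pullback t').obj G, t' ⁻¹ᵁ V) from (kappa u t t' e G).app V s) := by
  rw [kappa_app', kappa_app', Groth.Agent.H44.pullSectLE_smul, Scheme.Modules.Hom.app_smul]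

theorem kappa_congr {u' : T' ⟶ T} (hu : u = u') :
    kappa u t t' e G = kappa u' t t' (hu ▸ e) G := by
  subst hu; rfl

/-- `κ` on sections over `V`, as an additive map `Γ(t^* G, t⁻¹ V) → Γ(t'^* G, t'⁻¹ V)`. -/
noncomputable def kapSec (V : S.Opens) :
    Γ((pullback t).obj G, t ⁻¹ᵁ V) →+ Γ((pullback t').obj G, t' ⁻¹ᵁ V) :=
  ((kappa u t t' e G).app V).hom

theorem kapSec_apply (V : S.Opens) (s : Γ((pullback t).obj G, t ⁻¹ᵁ V)) :
    kapSec u t t' e G V s = (kappa u t t' e G).app V s := rfl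

theorem kapSec_pullSect (V : S.Opens) (n : Γ(G, V)) :
    kapSec u t t' e G V (OmegaSh.pullSect t G V n) = OmegaSh.pullSect t' G V n :=
  kappa_pullSect u t t' e G V n

theorem kapSec_smul (V : S.Opens) (r : Γ(T, t ⁻¹ᵁ V)) (s : Γ((pullback t).obj G, t ⁻¹ᵁ V)) :
    kapSec u t t' e G V (r • s) =
      (u.appLE (t ⁻¹ᵁ V) (t' ⁻¹ᵁ V) (preimage_le u t t' e V) r) • kapSec u t t' e G V s :=
  kappa_smul u t t' e G V r s

theorem res_injective_of_eq {X : Scheme.{u}} (M : X.Modules) {A B : X.Opens} (h : A = B) :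
    Function.Injective (M.presheaf.map (homOfLE h.le).op) := by
  subst h
  intro x y hxy
  rwa [Groth.Agent.H44.resM_refl, Groth.Agent.H44.resM_refl] at hxy

theorem kappaT_comp {T'' : Scheme.{u}} (v : T'' ⟶ T') (t'' : T'' ⟶ S) (e' : v ≫ t' = t'')
    (e'' : (v ≫ u) ≫ t = t'') :
    kappaT (v ≫ u) t t'' e'' G =
      kappaT u t t' e G ≫ (pushforward u).map (kappaT v t' t'' e' G) ≫
        (pushforwardComp v u).hom.app _ := by
  apply hom_ext_pullSect
  intro V n
  have hVV : t'' ⁻¹ᵁ V = (v ≫ u) ⁻¹ᵁ (t ⁻¹ᵁ V) := by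
    rw [← e'']; exact Scheme.Hom.comp_preimage _ _ _
  apply res_injective_of_eq ((pullback t'').obj G) hVV
  have h1 := kappa_app (v ≫ u) t t'' e'' G V (OmegaSh.pullSect t G V n)
  rw [kappa_pullSect] at h1
  refine h1.symm.trans ?_
  have h2 := kappa_app u t t' e G V (OmegaSh.pullSect t G V n)
  rw [kappa_pullSect] at h2
  have h3 := kappa_app v t' t'' e' G V (OmegaSh.pullSect t' G V n)
  rw [kappa_pullSect] at h3
  rw [h3, h2]
  simp only [Scheme.Modules.Hom.comp_app, ConcreteCategory.comp_apply, pushforward_map_app,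
    pushforwardComp_hom_app_app]
  have h4 := Groth.Agent.H44.hom_app_resLE (kappaT v t' t'' e' G) (preimage_le u t t' e V)
    ((kappaT u t t' e G).app (t ⁻¹ᵁ V) (OmegaSh.pullSect t G V n))
  erw [h4]
  erw [Groth.Agent.H44.resM_comp]
  rfl

theorem kappa_comp {T'' : Scheme.{u}} (v : T'' ⟶ T') (t'' : T'' ⟶ S) (e' : v ≫ t' = t'')
    (e'' : (v ≫ u) ≫ t = t'') :
    kappa u t t' e G ≫ kappa v t' t'' e' G = kappa (v ≫ u) t t'' e'' G := by
  refine Scheme.Modules.hom_ext _ _ fun V => ?_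
  ext (s : Γ((pullback t).obj G, t ⁻¹ᵁ V))
  rw [Scheme.Modules.Hom.comp_app, ConcreteCategory.comp_apply]
  have h1 := kappa_app (v ≫ u) t t'' e'' G V s
  rw [kappaT_comp u t t' e G v t'' e' e''] at h1
  have h2 := kappa_app u t t' e G V s
  have h3 := kappa_app v t' t'' e' G V ((kappa u t t' e G).app V s)
  refine h3.trans (Eq.trans ?_ h1.symm)
  rw [h2]
  simp only [Scheme.Modules.Hom.comp_app, ConcreteCategory.comp_apply, pushforward_map_app,
    pushforwardComp_hom_app_app]
  have h4 := Groth.Agent.H44.hom_app_resLE (kappaT v t' t'' e' G) (preimage_le u t t' e V)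
    ((kappaT u t t' e G).app (t ⁻¹ᵁ V) s)
  erw [h4]
  erw [Groth.Agent.H44.resM_comp]
  rfl

end Kappa

section BC

variable {S T T' : Scheme.{u}} (u : T' ⟶ T) (t : T ⟶ S) (t' : T' ⟶ S) (e : u ≫ t = t')
  {F G : S.Modules}

/-- Base change of a morphism `t^* F ⟶ t^* G` along `u`, as a morphism `t'^* F ⟶ t'^* G`. -/
noncomputable def bc (y : (pullback t).obj F ⟶ (pullback t).obj G) :
    (pullback t').obj F ⟶ (pullback t').obj G :=
  (compIso u t t' e F).inv ≫ (pullback u).map y ≫ (compIso u t t' e G).hom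

/-- The adjoint transpose of a base-changed morphism. -/
theorem homEquiv_bc (y : (pullback t).obj F ⟶ (pullback t).obj G) :
    (pullbackPushforwardAdjunction t').homEquiv _ _ (bc u t t' e y) =
      (pullbackPushforwardAdjunction t).homEquiv _ _ y ≫ kappa u t t' e G := by
  refine Scheme.Modules.hom_ext _ _ fun V => ?_
  ext m
  rw [homEquiv_app, Scheme.Modules.Hom.comp_app, ConcreteCategory.comp_apply, homEquiv_app]
  have h1 := kappa_app' u t t' e G V (y.app (t ⁻¹ᵁ V) (OmegaSh.pullSect t F V m))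
  refine Eq.trans ?_ h1.symm
  simp only [bc, Scheme.Modules.Hom.comp_app, ConcreteCategory.comp_apply]
  rw [compIso_inv_pullSect, Groth.Agent.H44.pullSectLE_naturality]

end BC

end Groth.Agent.H24.HomLim
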