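import Mathlib
import Groth.Agent.H24.ModLimGeom

/-!
# The ring system `ψ ↦ Γ(D ψ, (D ψ → D i₀)⁻¹ V)` of a limit of schemes (helper24)

For an affine open `V` of the stage `D i₀` of a cofiltered limit `c` with affine transition maps:
the rings `Γ(D ψ, (D.map ψ.hom)⁻¹ V)` (sections over the open of the scheme `D ψ`, as opposed to the
global sections of the open subscheme used in `ModLimGeom.R`) form a filtered system with colimit
`Γ(c.pt, π⁻¹ V)`.
-/

set_option autoImplicit false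
universe u
open CategoryTheory CategoryTheory.Limits AlgebraicGeometry Opposite

namespace Groth.Agent.H24.HomLim

theorem appLE_congr_hom {X Y : Scheme.{u}} {f f' : X ⟶ Y} (h : f = f') (U : Y.Opens) (W : X.Opens)
    (e : W ≤ f ⁻¹ᵁ U) : f.appLE U W e = f'.appLE U W (h ▸ e) := by
  subst h; rfl

theorem resLE_appTop_topIso {X Y : Scheme.{u}} (f : X ⟶ Y) (U : Y.Opens) (W : X.Opens)
    (e : W ≤ f ⁻¹ᵁ U) :
    (f.resLE U W e).appTop ≫ W.topIso.hom = U.topIso.hom ≫ f.appLE U W e := by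
  have := (arrowResLEAppIso f U W e).hom.w
  simpa [arrowResLEAppIso] using this.symm

variable {I : Type u} [SmallCategory I] (D : I ⥤ Scheme.{u}) (c : Cone D) (i₀ : I)
  (V : (D.obj i₀).Opens)

theorem map_preimage_le {ψ ψ' : Over i₀} (g : ψ' ⟶ ψ) :
    D.map ψ'.hom ⁻¹ᵁ V ≤ D.map g.left ⁻¹ᵁ (D.map ψ.hom ⁻¹ᵁ V) := by
  rw [← Scheme.Hom.comp_preimage, ← D.map_comp, Over.w g]

theorem π_preimage_le (ψ : Over i₀) :
    c.π.app i₀ ⁻¹ᵁ V ≤ c.π.app ψ.left ⁻¹ᵁ (D.map ψ.hom ⁻¹ᵁ V) := by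
  rw [← Scheme.Hom.comp_preimage, c.w]

/-- The system of rings `Γ(D ψ, (D.map ψ.hom)⁻¹ V)`. -/
noncomputable def RS : (Over i₀)ᵒᵖ ⥤ CommRingCat.{u} where
  obj ψ := Γ(D.obj ψ.unop.left, D.map ψ.unop.hom ⁻¹ᵁ V)
  map {ψ ψ'} g := (D.map g.unop.left).appLE _ _ (map_preimage_le D i₀ V g.unop)
  map_id ψ := by
    have h : D.map (𝟙 ψ).unop.left = 𝟙 _ := by
      change D.map (𝟙 ψ.unop.left) = 𝟙 _
      exact D.map_id _
    rw [appLE_congr_hom h]
    simp only [Scheme.Hom.appLE, Scheme.Hom.id_app, Category.id_comp]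
    exact (D.obj ψ.unop.left).presheaf.map_id _
  map_comp {ψ ψ' ψ''} g g' := by
    rw [Scheme.Hom.appLE_comp_appLE]
    have h : D.map (g ≫ g').unop.left = D.map g'.unop.left ≫ D.map g.unop.left := by
      change D.map (g'.unop.left ≫ g.unop.left) = _
      exact D.map_comp _ _
    rw [appLE_congr_hom h]

/-- The cocone `Γ(D ψ, (D.map ψ.hom)⁻¹ V) → Γ(c.pt, π⁻¹ V)`. -/
noncomputable def cRS : Cocone (RS D i₀ V) where
  pt := Γ(c.pt, c.π.app i₀ ⁻¹ᵁ V)
  ι :=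
    { app := fun ψ => (c.π.app ψ.unop.left).appLE _ _ (π_preimage_le D c i₀ V ψ.unop)
      naturality := fun ψ ψ' g => by
        change (D.map g.unop.left).appLE _ _ _ ≫ (c.π.app ψ'.unop.left).appLE _ _ _ =
          (c.π.app ψ.unop.left).appLE _ _ _ ≫ 𝟙 _
        rw [Scheme.Hom.appLE_comp_appLE, Category.comp_id]
        exact appLE_congr_hom (c.w g.unop.left) _ _ _ }

variable [IsCofiltered I] [∀ {i j : I} (f : i ⟶ j), IsAffineHom (D.map f)]

theorem isColimit_cRS (hc : IsLimit c) (hV : IsAffineOpen V) :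
    Nonempty (IsColimit (cRS D c i₀ V)) := by
  haveI : Fact (IsAffineOpen V) := ⟨hV⟩
  haveI := isAffineHom_π_app D c hc i₀
  obtain ⟨h⟩ := Groth.Agent.H24.ModLimGeom.isColimit_cR D c i₀ V hc
  let η : Groth.Agent.H24.ModLimGeom.R D i₀ V ≅ RS D i₀ V :=
    NatIso.ofComponents (fun ψ => (D.map ψ.unop.hom ⁻¹ᵁ V).topIso) (by
      intro ψ ψ' g
      exact resLE_appTop_topIso (D.map g.unop.left) _ _ (map_preimage_le D i₀ V g.unop))
  refine ⟨IsColimit.ofIsoColimit ((IsColimit.precomposeInvEquiv η _).symm h)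
    (Cocone.ext (c.π.app i₀ ⁻¹ᵁ V).topIso ?_)⟩
  intro ψ
  change ((D.map ψ.unop.hom ⁻¹ᵁ V).topIso.inv ≫ ((c.π.app ψ.unop.left).resLE _ _ _).appTop) ≫
    (c.π.app i₀ ⁻¹ᵁ V).topIso.hom = (c.π.app ψ.unop.left).appLE _ _ _
  rw [Category.assoc, resLE_appTop_topIso (c.π.app ψ.unop.left) _ _ (π_preimage_le D c i₀ V ψ.unop),
    Iso.inv_hom_id_assoc]

end Groth.Agent.H24.HomLim
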