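import Mathlib
import Groth.Agent.H24.HomLim.Kappa
import Groth.Agent.H24.HomLim.RingSys
import Groth.Agent.H24.ModLimAlg

/-!
# Sections of `t_* t^* G` over an affine open along a limit of schemes (helper24)

For `G` quasi-coherent on `S`, `V ⊆ S` an affine open and `t : T ⟶ S` affine, the sections of
`t^* G` over `t⁻¹ V` are `Γ(T, t⁻¹ V) ⊗ Γ(G, V)` (`Phi`), compatibly with the transition maps
`kappa`.  For a cofiltered limit of schemes this gives that `Γ(π_* π^* G, V)` is the filtered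
colimit of the `Γ(φ_ψ_* φ_ψ^* G, V)` (`exists_rep_sec`, `exists_eq_zero_sec`).
-/

set_option autoImplicit false
universe u
open CategoryTheory CategoryTheory.Limits AlgebraicGeometry Scheme.Modules TopologicalSpace Opposite
  TensorProduct

namespace Groth.Agent.H24.HomLim

open Groth.Agent.H24.ModLimAlg

section Phi

variable {S T : Scheme.{u}} (t : T ⟶ S) [IsAffineHom t] (G : S.Modules) [G.IsQuasicoherent]
  {V : S.Opens} (hV : IsAffineOpen V)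

/-- The module `Γ(G, V)` over `Γ(S, V)`. -/
noncomputable abbrev NV (G : S.Modules) (V : S.Opens) : ModuleCat.{u} Γ(S, V) :=
  ModuleCat.of Γ(S, V) Γ(G, V)

/-- `Γ(t^* G, t⁻¹ V) ≃ Γ(T, t⁻¹ V) ⊗ Γ(G, V)`. -/
noncomputable def Phi :
    Γ((Scheme.Modules.pullback t).obj G, t ⁻¹ᵁ V) ≃ₗ[Γ(T, t ⁻¹ᵁ V)]
      ((ModuleCat.extendScalars (t.appLE V (t ⁻¹ᵁ V) le_rfl).hom).obj (NV G V)) :=
  (Groth.Agent.H44.sectionsSpecEquiv ((Scheme.Modules.pullback t).obj G) (hV.preimage t)).symm ≪≫ₗ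
    (Groth.Agent.H44.pullbackSectionsIso t G (hV.preimage t) hV le_rfl).toLinearEquiv

set_option maxRecDepth 4000 in
theorem Phi_pullSect (n : Γ(G, V)) :
    Phi t G hV (OmegaSh.pullSect t G V n) = oneE (t.appLE V (t ⁻¹ᵁ V) le_rfl).hom (N := NV G V) n := by
  letI := (t.appLE V (t ⁻¹ᵁ V) le_rfl).hom.toAlgebra
  have h1 := Groth.Agent.H44.pullbackSectionsEquiv_pullSectLE t G (hV.preimage t) hV le_rfl n
  rw [Groth.Agent.H44.pullSectLE_self] at h1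
  apply (Groth.Agent.H44.extendScalarsEquiv (A := Γ(S, V)) (B := Γ(T, t ⁻¹ᵁ V)) (NV G V)).injective
  have h2 : Groth.Agent.H44.extendScalarsEquiv (A := Γ(S, V)) (B := Γ(T, t ⁻¹ᵁ V)) (NV G V)
      (oneE (t.appLE V (t ⁻¹ᵁ V) le_rfl).hom (N := NV G V) n) =
      (1 : Γ(T, t ⁻¹ᵁ V)) ⊗ₜ[Γ(S, V)] n := rfl
  refine Eq.trans ?_ h2.symm
  refine Eq.trans ?_ h1
  rfl

theorem Phi_smul_pullSect (r : Γ(T, t ⁻¹ᵁ V)) (n : Γ(G, V)) :
    Phi t G hV (r • OmegaSh.pullSect t G V n) =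
      (show ↑((ModuleCat.restrictScalars (t.appLE V (t ⁻¹ᵁ V) le_rfl).hom).obj
        (ModuleCat.of Γ(T, t ⁻¹ᵁ V) Γ(T, t ⁻¹ᵁ V))) from r) ⊗ₜ[Γ(S, V)] n := by
  rw [LinearEquiv.map_smul, Phi_pullSect]
  exact tmul_eq_smul_oneE (N := NV G V) (t.appLE V (t ⁻¹ᵁ V) le_rfl).hom r n

set_option maxRecDepth 4000 in
/-- `Phi` intertwines `kappa` with any additive map which is `r ⊗ n ↦ u♯ r ⊗ n` on pure tensors. -/
theorem Phi_kappa {T' : Scheme.{u}} (u : T' ⟶ T) (t' : T' ⟶ S) [IsAffineHom t'] (e : u ≫ t = t')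
    (τ : ((ModuleCat.extendScalars (t.appLE V (t ⁻¹ᵁ V) le_rfl).hom).obj (NV G V)) →+
      ((ModuleCat.extendScalars (t'.appLE V (t' ⁻¹ᵁ V) le_rfl).hom).obj (NV G V)))
    (hτ : ∀ (r : Γ(T, t ⁻¹ᵁ V)) (n : Γ(G, V)),
      τ ((show ↑((ModuleCat.restrictScalars (t.appLE V (t ⁻¹ᵁ V) le_rfl).hom).obj
        (ModuleCat.of Γ(T, t ⁻¹ᵁ V) Γ(T, t ⁻¹ᵁ V))) from r) ⊗ₜ[Γ(S, V)] n) =
      (show ↑((ModuleCat.restrictScalars (t'.appLE V (t' ⁻¹ᵁ V) le_rfl).hom).obj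
        (ModuleCat.of Γ(T', t' ⁻¹ᵁ V) Γ(T', t' ⁻¹ᵁ V))) from
          (u.appLE (t ⁻¹ᵁ V) (t' ⁻¹ᵁ V) (preimage_le u t t' e V)).hom r) ⊗ₜ[Γ(S, V)] n)
    (s : Γ((Scheme.Modules.pullback t).obj G, t ⁻¹ᵁ V)) :
    Phi t' G hV (kapSec u t t' e G V s) = τ (Phi t G hV s) := by
  obtain ⟨fA, hfA⟩ : ∃ fA : ((ModuleCat.extendScalars (t.appLE V (t ⁻¹ᵁ V) le_rfl).hom).obj (NV G V)) →+
      ((ModuleCat.extendScalars (t'.appLE V (t' ⁻¹ᵁ V) le_rfl).hom).obj (NV G V)),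
      ∀ z, fA z = Phi t' G hV (kapSec u t t' e G V ((Phi t G hV).symm z)) :=
    ⟨AddMonoidHom.mk' (fun z => Phi t' G hV (kapSec u t t' e G V ((Phi t G hV).symm z)))
      (fun a b => by rw [_root_.map_add, _root_.map_add, _root_.map_add]), fun z => rfl⟩
  have key : ∀ z, fA z = τ z := by
    intro z
    induction z using TensorProduct.induction_on with
    | zero => exact (_root_.map_zero fA).trans (_root_.map_zero τ).symm
    | tmul r n =>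
      refine (hfA _).trans ?_
      have h1 : (Phi t G hV).symm (r ⊗ₜ[Γ(S, V)] n) =
          (show Γ(T, t ⁻¹ᵁ V) from r) • OmegaSh.pullSect t G V n := by
        rw [LinearEquiv.symm_apply_eq]
        exact (Phi_smul_pullSect t G hV r n).symm
      rw [h1, kapSec_smul, kapSec_pullSect]
      exact (Phi_smul_pullSect t' G hV _ n).trans (hτ r n).symm
    | add a b ha hb =>
      exact (_root_.map_add fA a b).trans ((congrArg₂ (· + ·) ha hb).trans (_root_.map_add τ a b).symm)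
  have := key (Phi t G hV s)
  rw [hfA, LinearEquiv.symm_apply_apply] at this
  exact this

end Phi

section Lim

variable {I : Type u} [SmallCategory I] (D : I ⥤ Scheme.{u}) (c : Cone D) (i₀ : I)
  (G : (D.obj i₀).Modules)

theorem map_w {ψ ψ' : Over i₀} (g : ψ' ⟶ ψ) : D.map g.left ≫ D.map ψ.hom = D.map ψ'.hom := by
  rw [← D.map_comp, Over.w]

/-- The module `φ_ψ_* φ_ψ^* G` on the stage `D i₀`. -/
noncomputable abbrev GS (ψ : Over i₀) : (D.obj i₀).Modules := PP (D.map ψ.hom) G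

/-- The module `π_* π^* G` on the stage `D i₀`. -/
noncomputable abbrev GLim : (D.obj i₀).Modules := PP (c.π.app i₀) G

/-- The transition map `φ_ψ_* φ_ψ^* G ⟶ φ_ψ'_* φ_ψ'^* G`. -/
noncomputable def kapT {ψ ψ' : Over i₀} (g : ψ' ⟶ ψ) : GS D i₀ G ψ ⟶ GS D i₀ G ψ' :=
  kappa (D.map g.left) (D.map ψ.hom) (D.map ψ'.hom) (map_w D i₀ g) G

/-- The map to the limit `φ_ψ_* φ_ψ^* G ⟶ π_* π^* G`. -/
noncomputable def kapS (ψ : Over i₀) : GS D i₀ G ψ ⟶ GLim D c i₀ G :=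
  kappa (c.π.app ψ.left) (D.map ψ.hom) (c.π.app i₀) (c.w ψ.hom) G

theorem kapT_comp {ψ ψ' ψ'' : Over i₀} (g : ψ' ⟶ ψ) (g' : ψ'' ⟶ ψ') :
    kapT D i₀ G g ≫ kapT D i₀ G g' = kapT D i₀ G (g' ≫ g) := by
  unfold kapT
  have e'' : (D.map g'.left ≫ D.map g.left) ≫ D.map ψ.hom = D.map ψ''.hom := by
    rw [Category.assoc, map_w, map_w]
  rw [kappa_comp (D.map g.left) (D.map ψ.hom) (D.map ψ'.hom) (map_w D i₀ g) G (D.map g'.left)
    (D.map ψ''.hom) (map_w D i₀ g') e'']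
  exact kappa_congr _ _ _ _ _ (D.map_comp g'.left g.left).symm

theorem kapT_kapS {ψ ψ' : Over i₀} (g : ψ' ⟶ ψ) :
    kapT D i₀ G g ≫ kapS D c i₀ G ψ' = kapS D c i₀ G ψ := by
  unfold kapT kapS
  have e'' : (c.π.app ψ'.left ≫ D.map g.left) ≫ D.map ψ.hom = c.π.app i₀ := by
    rw [c.w, c.w]
  rw [kappa_comp (D.map g.left) (D.map ψ.hom) (D.map ψ'.hom) (map_w D i₀ g) G (c.π.app ψ'.left)
    (c.π.app i₀) (c.w ψ'.hom) e'']
  exact kappa_congr _ _ _ _ _ (c.w g.left)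

section Colim

variable [IsCofiltered I] [∀ {i j : I} (f : i ⟶ j), IsAffineHom (D.map f)]
  (V : (D.obj i₀).Opens)

/-- The structure maps `Γ(D i₀, V) ⟶ Γ(D ψ, φ_ψ⁻¹ V)`. -/
noncomputable def αS (ψ : (Over i₀)ᵒᵖ) : Γ(D.obj i₀, V) ⟶ (RS D i₀ V).obj ψ :=
  (D.map ψ.unop.hom).appLE V _ le_rfl

theorem αS_map {ψ ψ' : (Over i₀)ᵒᵖ} (g : ψ ⟶ ψ') :
    αS D i₀ V ψ ≫ (RS D i₀ V).map g = αS D i₀ V ψ' := by
  change (D.map ψ.unop.hom).appLE V _ le_rfl ≫ (D.map g.unop.left).appLE _ _ _ =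
    (D.map ψ'.unop.hom).appLE V _ le_rfl
  rw [Scheme.Hom.appLE_comp_appLE]
  exact appLE_congr_hom (map_w D i₀ g.unop) _ _ _

/-- The structure map `Γ(D i₀, V) ⟶ Γ(c.pt, π⁻¹ V)`. -/
noncomputable def αSI : Γ(D.obj i₀, V) ⟶ (cRS D c i₀ V).pt :=
  (c.π.app i₀).appLE V _ le_rfl

theorem αS_ι (ψ : (Over i₀)ᵒᵖ) :
    αS D i₀ V ψ ≫ (cRS D c i₀ V).ι.app ψ = αSI D c i₀ V := by
  change (D.map ψ.unop.hom).appLE V _ le_rfl ≫ (c.π.app ψ.unop.left).appLE _ _ _ =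
    (c.π.app i₀).appLE V _ le_rfl
  rw [Scheme.Hom.appLE_comp_appLE]
  exact appLE_congr_hom (c.w ψ.unop.hom) _ _ _

end Colim

end Lim

end Groth.Agent.H24.HomLim
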