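import Mathlib
import Groth.Agent.H24.HomLim.SecLim

/-!
# Sections of `π_* π^* G` over an affine open as a filtered colimit (helper24)
-/

set_option autoImplicit false
universe u
open CategoryTheory CategoryTheory.Limits AlgebraicGeometry Scheme.Modules TopologicalSpace Opposite
  TensorProduct

namespace Groth.Agent.H24.HomLim

open Groth.Agent.H24.ModLimAlg

variable {I : Type u} [SmallCategory I] [IsCofiltered I] (D : I ⥤ Scheme.{u})
  [∀ {i j : I} (f : i ⟶ j), IsAffineHom (D.map f)] (c : Cone D) (hc : IsLimit c) (i₀ : I)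
  (G : (D.obj i₀).Modules) [G.IsQuasicoherent] {V : (D.obj i₀).Opens} (hV : IsAffineOpen V)

include hc hV in
set_option maxRecDepth 4000 in
theorem exists_rep_sec
    (s : Γ((Scheme.Modules.pullback (c.π.app i₀)).obj G, c.π.app i₀ ⁻¹ᵁ V)) :
    ∃ (ψ : Over i₀) (s' : Γ((Scheme.Modules.pullback (D.map ψ.hom)).obj G, D.map ψ.hom ⁻¹ᵁ V)),
      kapSec (c.π.app ψ.left) (D.map ψ.hom) (c.π.app i₀) (c.w ψ.hom) G V s' = s := by
  haveI := isAffineHom_π_app D c hc i₀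
  obtain ⟨hcR⟩ := isColimit_cRS D c i₀ V hc hV
  have hαn : ∀ {j j' : (Over i₀)ᵒᵖ} (f : j ⟶ j'),
      αS D i₀ V j ≫ (RS D i₀ V).map f = αS D i₀ V j' := fun f => αS_map D i₀ V f
  have hα := αS_ι D c i₀ V
  obtain ⟨j, y, hy⟩ := exists_rep hcR (αS D i₀ V) hαn (αSI D c i₀ V) hα (NV G V)
    (Phi (c.π.app i₀) G hV s)
  refine ⟨j.unop, (Phi (D.map j.unop.hom) G hV).symm y, ?_⟩
  apply (Phi (c.π.app i₀) G hV).injective
  rw [Phi_kappa (D.map j.unop.hom) G hV (c.π.app j.unop.left) (c.π.app i₀) (c.w j.unop.hom)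
    (trI (αS D i₀ V) hαn (αSI D c i₀ V) hα (NV G V) j).hom.toAddMonoidHom
    (fun r n => trI_tmul (αS D i₀ V) hαn (αSI D c i₀ V) hα (NV G V) j r n)]
  rw [LinearEquiv.apply_symm_apply]
  exact hy

include hc hV in
set_option maxRecDepth 4000 in
theorem exists_eq_sec (ψ : Over i₀)
    (s₁ s₂ : Γ((Scheme.Modules.pullback (D.map ψ.hom)).obj G, D.map ψ.hom ⁻¹ᵁ V))
    (h : kapSec (c.π.app ψ.left) (D.map ψ.hom) (c.π.app i₀) (c.w ψ.hom) G V s₁ =
      kapSec (c.π.app ψ.left) (D.map ψ.hom) (c.π.app i₀) (c.w ψ.hom) G V s₂) :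
    ∃ (ψ' : Over i₀) (g : ψ' ⟶ ψ),
      kapSec (D.map g.left) (D.map ψ.hom) (D.map ψ'.hom) (map_w D i₀ g) G V s₁ =
      kapSec (D.map g.left) (D.map ψ.hom) (D.map ψ'.hom) (map_w D i₀ g) G V s₂ := by
  haveI := isAffineHom_π_app D c hc i₀
  obtain ⟨hcR⟩ := isColimit_cRS D c i₀ V hc hV
  have hαn : ∀ {j j' : (Over i₀)ᵒᵖ} (f : j ⟶ j'),
      αS D i₀ V j ≫ (RS D i₀ V).map f = αS D i₀ V j' := fun f => αS_map D i₀ V f
  have hα := αS_ι D c i₀ V
  have hxy : (trI (αS D i₀ V) hαn (αSI D c i₀ V) hα (NV G V) (op ψ)).hom (Phi (D.map ψ.hom) G hV s₁) =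
      (trI (αS D i₀ V) hαn (αSI D c i₀ V) hα (NV G V) (op ψ)).hom (Phi (D.map ψ.hom) G hV s₂) := by
    have h1 := fun s => Phi_kappa (D.map ψ.hom) G hV (c.π.app ψ.left) (c.π.app i₀) (c.w ψ.hom)
      (trI (αS D i₀ V) hαn (αSI D c i₀ V) hα (NV G V) (op ψ)).hom.toAddMonoidHom
      (fun r n => trI_tmul (αS D i₀ V) hαn (αSI D c i₀ V) hα (NV G V) (op ψ) r n) s
    exact (h1 s₁).symm.trans ((congrArg _ h).trans (h1 s₂))
  obtain ⟨k, f, hk⟩ := exists_of_rep_eq hcR (αS D i₀ V) hαn (αSI D c i₀ V) hα (NV G V) _ _ hxy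
  refine ⟨k.unop, f.unop, ?_⟩
  apply (Phi (D.map k.unop.hom) G hV).injective
  have h2 := fun s => Phi_kappa (D.map ψ.hom) G hV (D.map f.unop.left) (D.map k.unop.hom)
    (map_w D i₀ f.unop)
    (tr (αS D i₀ V) hαn (NV G V) f).hom.toAddMonoidHom
    (fun r n => tr_tmul (αS D i₀ V) hαn (NV G V) f r n) s
  exact (h2 s₁).trans (hk.trans (h2 s₂).symm)

end Groth.Agent.H24.HomLim
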