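import Mathlib
import Groth.Agent.H24.HomLim.SecColim
import Groth.Agent.H24.HomLim.Glue
import Groth.Agent.H24.HomLim.ModFP
import Groth.Agent.H44.FPSections

/-!
# Morphisms of pulled-back modules along a limit of schemes descend to a finite stage (helper24)
-/

set_option autoImplicit false
universe u
open CategoryTheory CategoryTheory.Limits AlgebraicGeometry Scheme.Modules TopologicalSpace Opposite

namespace Groth.Agent.H24.HomLim

theorem appLin_comp {X : Scheme.{u}} {M N N' : X.Modules} (θ : M ⟶ N) (θ' : N ⟶ N') (U : X.Opens) :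
    appLin (θ ≫ θ') U = (appLin θ' U).comp (appLin θ U) := by
  ext x
  rfl

variable {I : Type u} [SmallCategory I] [IsCofiltered I] (D : I ⥤ Scheme.{u})
  [∀ {i j : I} (f : i ⟶ j), IsAffineHom (D.map f)] (c : Cone D) (hc : IsLimit c) (i₀ : I)
  (F G : (D.obj i₀).Modules) [G.IsQuasicoherent]

section Local

variable {V : (D.obj i₀).Opens} (hV : IsAffineOpen V)

include hc hV in
theorem exists_lift_lin [SheafOfModules.IsFinitePresentation (R := (D.obj i₀).ringCatSheaf) F]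
    (l : Γ(F, V) →ₗ[Γ(D.obj i₀, V)] Γ(GLim D c i₀ G, V)) :
    ∃ (ψ : Over i₀) (μ : Γ(F, V) →ₗ[Γ(D.obj i₀, V)] Γ(GS D i₀ G ψ, V)),
      (appLin (kapS D c i₀ G ψ) V).comp μ = l := by
  haveI := Groth.Agent.H44.finitePresentation_sections_of_isFinitePresentation F hV
  refine exists_lift_of_finitePresentation (C := Over i₀) (A := Γ(D.obj i₀, V))
    (P := fun ψ => Γ(GS D i₀ G ψ, V)) (Pl := Γ(GLim D c i₀ G, V))
    (fun {ψ ψ'} g => appLin (kapT D i₀ G g) V) (fun ψ => appLin (kapS D c i₀ G ψ) V)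
    ?_ ?_ ?_ ?_ l
  · intro ψ ψ' ψ'' g g'
    rw [← appLin_comp, kapT_comp]
  · intro ψ ψ' g
    rw [← appLin_comp, kapT_kapS]
  · intro p
    exact exists_rep_sec D c hc i₀ G hV p
  · intro ψ p₁ p₂ h
    exact exists_eq_sec D c hc i₀ G hV ψ p₁ p₂ h

include hc hV in
theorem exists_eq_lin [SheafOfModules.IsFinitePresentation (R := (D.obj i₀).ringCatSheaf) F]
    (ψ : Over i₀) (μ₁ μ₂ : Γ(F, V) →ₗ[Γ(D.obj i₀, V)] Γ(GS D i₀ G ψ, V))
    (h : (appLin (kapS D c i₀ G ψ) V).comp μ₁ = (appLin (kapS D c i₀ G ψ) V).comp μ₂) :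
    ∃ (ψ' : Over i₀) (g : ψ' ⟶ ψ),
      (appLin (kapT D i₀ G g) V).comp μ₁ = (appLin (kapT D i₀ G g) V).comp μ₂ := by
  haveI := Groth.Agent.H44.finitePresentation_sections_of_isFinitePresentation F hV
  haveI : Module.Finite Γ(D.obj i₀, V) Γ(F, V) := inferInstance
  refine exists_comp_eq_of_finite (C := Over i₀) (A := Γ(D.obj i₀, V))
    (P := fun ψ => Γ(GS D i₀ G ψ, V)) (Pl := Γ(GLim D c i₀ G, V))
    (fun {ψ ψ'} g => appLin (kapT D i₀ G g) V) (fun ψ => appLin (kapS D c i₀ G ψ) V)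
    ?_ ?_ μ₁ μ₂ h
  · intro ψ ψ' ψ'' g g'
    rw [← appLin_comp, kapT_comp]
  · intro ψ p₁ p₂ h
    exact exists_eq_sec D c hc i₀ G hV ψ p₁ p₂ h

end Local

section Global

variable [F.IsQuasicoherent]

theorem extLin_push {ψ ψ' ψ'' : Over i₀} (g : ψ' ⟶ ψ) (a : ψ'' ⟶ ψ') {W V : (D.obj i₀).Opens}
    (hW : IsAffineOpen W) (hV : IsAffineOpen V) (h : W ≤ V)
    (μ : Γ(F, V) →ₗ[Γ(D.obj i₀, V)] Γ(GS D i₀ G ψ, V)) :
    extLin F (GS D i₀ G ψ'') hW hV h ((appLin (kapT D i₀ G (a ≫ g)) V).comp μ) =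
      (appLin (kapT D i₀ G a) W).comp
        (extLin F (GS D i₀ G ψ') hW hV h ((appLin (kapT D i₀ G g) V).comp μ)) := by
  rw [extLin_comp, ← kapT_comp, appLin_comp, LinearMap.comp_assoc]

variable [SheafOfModules.IsFinitePresentation (R := (D.obj i₀).ringCatSheaf) F]

include hc in
/-- Compatibility on one overlap after passing to a later stage. -/
theorem exists_compat_pair [QuasiSeparatedSpace (D.obj i₀)] (θ : F ⟶ GLim D c i₀ G)
    {V₁ V₂ : (D.obj i₀).Opens} (hV₁ : IsAffineOpen V₁) (hV₂ : IsAffineOpen V₂) (ψ : Over i₀)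
    (μ₁ : Γ(F, V₁) →ₗ[Γ(D.obj i₀, V₁)] Γ(GS D i₀ G ψ, V₁))
    (μ₂ : Γ(F, V₂) →ₗ[Γ(D.obj i₀, V₂)] Γ(GS D i₀ G ψ, V₂))
    (h₁ : (appLin (kapS D c i₀ G ψ) V₁).comp μ₁ = appLin θ V₁)
    (h₂ : (appLin (kapS D c i₀ G ψ) V₂).comp μ₂ = appLin θ V₂) :
    ∃ (ψ' : Over i₀) (g : ψ' ⟶ ψ), ∀ x : D.obj i₀, x ∈ V₁ → x ∈ V₂ →
      ∃ (W : (D.obj i₀).Opens) (hW : IsAffineOpen W) (hk : W ≤ V₁) (hl : W ≤ V₂), x ∈ W ∧
        extLin F (GS D i₀ G ψ') hW hV₁ hk ((appLin (kapT D i₀ G g) V₁).comp μ₁) =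
        extLin F (GS D i₀ G ψ') hW hV₂ hl ((appLin (kapT D i₀ G g) V₂).comp μ₂) := by
  classical
  have hcomp : IsCompact ((V₁ : Set (D.obj i₀)) ∩ V₂) :=
    hV₁.isCompact.inter_of_isOpen hV₂.isCompact V₁.2 V₂.2
  obtain ⟨t, ht, hcov⟩ := isCompact_and_isOpen_iff_finite_and_eq_biUnion_affineOpens.mp
    ⟨hcomp, V₁.2.inter V₂.2⟩
  have hle : ∀ W ∈ t, (W : (D.obj i₀).Opens) ≤ V₁ ∧ (W : (D.obj i₀).Opens) ≤ V₂ := by
    intro W hW
    have : ((W : (D.obj i₀).Opens) : Set (D.obj i₀)) ⊆ (V₁ : Set (D.obj i₀)) ∩ V₂ := by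
      rw [hcov]
      exact Set.subset_biUnion_of_mem (u := fun i : (D.obj i₀).affineOpens => ((i : (D.obj i₀).Opens) : Set (D.obj i₀))) hW
    exact ⟨fun y hy => (this hy).1, fun y hy => (this hy).2⟩
  obtain ⟨ψ', g, hg⟩ := exists_common_over ψ ht.toFinset
    (fun ψ' g (W : (D.obj i₀).affineOpens) => ∀ (hk : W.1 ≤ V₁) (hl : W.1 ≤ V₂),
      extLin F (GS D i₀ G ψ') W.2 hV₁ hk ((appLin (kapT D i₀ G g) V₁).comp μ₁) =
      extLin F (GS D i₀ G ψ') W.2 hV₂ hl ((appLin (kapT D i₀ G g) V₂).comp μ₂))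
    (fun ψ' g ψ'' a W hQ hk hl => by
      rw [extLin_push, extLin_push, hQ hk hl])
    (fun W hW => by
      have hWt : W ∈ t := ht.mem_toFinset.mp hW
      obtain ⟨hk, hl⟩ := hle W hWt
      have e₁ : (appLin (kapS D c i₀ G ψ) W.1).comp (extLin F (GS D i₀ G ψ) W.2 hV₁ hk μ₁) =
          appLin θ W.1 := by
        rw [extLin_comp, h₁, extLin_appLin]
      have e₂ : (appLin (kapS D c i₀ G ψ) W.1).comp (extLin F (GS D i₀ G ψ) W.2 hV₂ hl μ₂) =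
          appLin θ W.1 := by
        rw [extLin_comp, h₂, extLin_appLin]
      obtain ⟨ψ', g, hg⟩ := exists_eq_lin D c hc i₀ F G W.2 ψ _ _ (e₁.trans e₂.symm)
      refine ⟨ψ', g, fun hk' hl' => ?_⟩
      rw [← extLin_comp, ← extLin_comp]
      exact hg)
  refine ⟨ψ', g, fun x hx₁ hx₂ => ?_⟩
  have hx : x ∈ ⋃ i ∈ t, ((i : (D.obj i₀).Opens) : Set (D.obj i₀)) := hcov ▸ ⟨hx₁, hx₂⟩
  obtain ⟨W, hWt, hxW⟩ := Set.mem_iUnion₂.mp hx
  obtain ⟨hk, hl⟩ := hle W hWt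
  exact ⟨W.1, W.2, hk, hl, hxW, hg W (ht.mem_toFinset.mpr hWt) hk hl⟩

include hc in
/-- **A morphism to the limit module factors through a finite stage.** -/
theorem exists_lift_hom [CompactSpace (D.obj i₀)] [QuasiSeparatedSpace (D.obj i₀)]
    (θ : F ⟶ GLim D c i₀ G) :
    ∃ (ψ : Over i₀) (θ' : F ⟶ GS D i₀ G ψ), θ' ≫ kapS D c i₀ G ψ = θ := by
  classical
  obtain ⟨s, hs, hcov⟩ := isCompact_and_isOpen_iff_finite_and_eq_biUnion_affineOpens.mp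
    (⟨isCompact_univ, isOpen_univ⟩ : IsCompact (Set.univ : Set (D.obj i₀)) ∧ IsOpen Set.univ)
  haveI : Fintype s := hs.fintype
  obtain ⟨Vs, hVsdef⟩ : ∃ Vs : s → (D.obj i₀).Opens, Vs = fun k => k.1.1 := ⟨_, rfl⟩
  have hVs : ∀ k, IsAffineOpen (Vs k) := fun k => by rw [hVsdef]; exact k.1.2
  have hcov' : ∀ x : D.obj i₀, ∃ k, x ∈ Vs k := by
    intro x
    have hx : x ∈ ⋃ i ∈ s, ((i : (D.obj i₀).Opens) : Set (D.obj i₀)) := hcov ▸ Set.mem_univ x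
    obtain ⟨W, hWs, hxW⟩ := Set.mem_iUnion₂.mp hx
    exact ⟨⟨W, hWs⟩, by rw [hVsdef]; exact hxW⟩
  -- Step A: local lifts at a common stage
  obtain ⟨ψ₁, -, hA⟩ := exists_common_over (Over.mk (𝟙 i₀)) (Finset.univ : Finset s)
    (fun ψ' _ k => ∃ μ : Γ(F, Vs k) →ₗ[Γ(D.obj i₀, Vs k)] Γ(GS D i₀ G ψ', Vs k),
      (appLin (kapS D c i₀ G ψ') (Vs k)).comp μ = appLin θ (Vs k))
    (fun ψ' g ψ'' a k ⟨μ, hμ⟩ => ⟨(appLin (kapT D i₀ G a) (Vs k)).comp μ, by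
      rw [← LinearMap.comp_assoc, ← appLin_comp, kapT_kapS, hμ]⟩)
    (fun k _ => by
      obtain ⟨ψ, μ, hμ⟩ := exists_lift_lin D c hc i₀ F G (hVs k) (appLin θ (Vs k))
      exact ⟨ψ, Over.homMk ψ.hom, μ, hμ⟩)
  choose μ hμ using fun k => hA k (Finset.mem_univ k)
  -- Step B/C: compatibility on the overlaps at a common later stage
  obtain ⟨ψ₂, g, hC⟩ := exists_common_over ψ₁ (Finset.univ : Finset (s × s))
    (fun ψ' g p => ∀ x : D.obj i₀, x ∈ Vs p.1 → x ∈ Vs p.2 →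
      ∃ (W : (D.obj i₀).Opens) (hW : IsAffineOpen W) (hk : W ≤ Vs p.1) (hl : W ≤ Vs p.2), x ∈ W ∧
        extLin F (GS D i₀ G ψ') hW (hVs p.1) hk ((appLin (kapT D i₀ G g) (Vs p.1)).comp (μ p.1)) =
        extLin F (GS D i₀ G ψ') hW (hVs p.2) hl ((appLin (kapT D i₀ G g) (Vs p.2)).comp (μ p.2)))
    (fun ψ' g ψ'' a p hQ x hx₁ hx₂ => by
      obtain ⟨W, hW, hk, hl, hxW, hWeq⟩ := hQ x hx₁ hx₂
      refine ⟨W, hW, hk, hl, hxW, ?_⟩
      rw [extLin_push, extLin_push, hWeq])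
    (fun p _ => exists_compat_pair D c hc i₀ F G θ (hVs p.1) (hVs p.2) ψ₁ (μ p.1) (μ p.2)
      (hμ p.1) (hμ p.2))
  -- Step D: glue
  obtain ⟨θ', hθ'⟩ := exists_hom_of_affine_cover F (GS D i₀ G ψ₂) Vs hVs
    (fun k => (appLin (kapT D i₀ G g) (Vs k)).comp (μ k)) hcov'
    (fun k l x hxk hxl => hC (k, l) (Finset.mem_univ _) x hxk hxl)
  refine ⟨ψ₂, θ', hom_ext_of_affine_cover F (GLim D c i₀ G) Vs hVs hcov' _ _ fun k m => ?_⟩
  have e2 : (appLin (kapS D c i₀ G ψ₂) (Vs k)).comp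
      ((appLin (kapT D i₀ G g) (Vs k)).comp (μ k)) = appLin θ (Vs k) := by
    rw [← LinearMap.comp_assoc, ← appLin_comp, kapT_kapS, hμ]
  have e1 : (θ' ≫ kapS D c i₀ G ψ₂).app (Vs k) m =
      (kapS D c i₀ G ψ₂).app (Vs k) (θ'.app (Vs k) m) := rfl
  rw [e1, hθ' k m]
  exact LinearMap.congr_fun e2 m

include hc in
/-- **Surjectivity of `colim Hom(F_j, G_j) → Hom(F, G)`.** -/
theorem exists_hom_pullback_eq [CompactSpace (D.obj i₀)] [QuasiSeparatedSpace (D.obj i₀)]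
    (h : (Scheme.Modules.pullback (c.π.app i₀)).obj F ⟶ (Scheme.Modules.pullback (c.π.app i₀)).obj G) :
    ∃ (j : I) (φ : j ⟶ i₀) (hj : (Scheme.Modules.pullback (D.map φ)).obj F ⟶
        (Scheme.Modules.pullback (D.map φ)).obj G),
      bc (c.π.app j) (D.map φ) (c.π.app i₀) (c.w φ) hj = h := by
  obtain ⟨ψ, θ', hθ'⟩ := exists_lift_hom D c hc i₀ F G
    ((pullbackPushforwardAdjunction (c.π.app i₀)).homEquiv _ _ h)
  refine ⟨ψ.left, ψ.hom,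
    ((pullbackPushforwardAdjunction (D.map ψ.hom)).homEquiv _ _).symm θ', ?_⟩
  apply ((pullbackPushforwardAdjunction (c.π.app i₀)).homEquiv _ _).injective
  rw [homEquiv_bc, Equiv.apply_symm_apply]
  exact hθ'

end Global

end Groth.Agent.H24.HomLim
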