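import Mathlib
import Groth.Agent.H24.HomLim.Main
import Groth.Agent.H24.ModLimIso

/-!
# Isomorphy of pulled-back modules along a limit of schemes descends to a finite stage (helper24)
-/

set_option autoImplicit false
universe u
open CategoryTheory CategoryTheory.Limits AlgebraicGeometry Scheme.Modules TopologicalSpace Opposite

namespace Groth.Agent.H24.HomLim

open Groth.Agent.H24.ModLimMain

variable {I : Type u} [SmallCategory I] [IsCofiltered I] (D : I ⥤ Scheme.{u})
  [∀ {i j : I} (f : i ⟶ j), IsAffineHom (D.map f)] (c : Cone D) (hc : IsLimit c) (i₀ : I)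
  (F G : (D.obj i₀).Modules) [F.IsQuasicoherent] [G.IsQuasicoherent]
  [SheafOfModules.IsFinitePresentation (R := (D.obj i₀).ringCatSheaf) F]
  [SheafOfModules.IsFinitePresentation (R := (D.obj i₀).ringCatSheaf) G]

include hc in
theorem nonempty_iso_pullback_iff [CompactSpace (D.obj i₀)] [QuasiSeparatedSpace (D.obj i₀)] :
    Nonempty ((Scheme.Modules.pullback (c.π.app i₀)).obj F ≅
        (Scheme.Modules.pullback (c.π.app i₀)).obj G) ↔
      ∃ (j : I) (φ : j ⟶ i₀),
        Nonempty ((Scheme.Modules.pullback (D.map φ)).obj F ≅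
          (Scheme.Modules.pullback (D.map φ)).obj G) := by
  constructor
  · rintro ⟨a⟩
    obtain ⟨j, φ, α, hα⟩ := exists_hom_pullback_eq D c hc i₀ F G a.hom
    haveI : CompactSpace (D.obj j) := QuasiCompact.compactSpace_of_compactSpace (D.map φ)
    haveI : SheafOfModules.IsFinitePresentation (R := (D.obj j).ringCatSheaf)
        ((Scheme.Modules.pullback (D.map φ)).obj F) :=
      Groth.Agent.H44.isFinitePresentation_pullback (D.map φ) F
    haveI : SheafOfModules.IsFinitePresentation (R := (D.obj j).ringCatSheaf)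
        ((Scheme.Modules.pullback (D.map φ)).obj G) :=
      Groth.Agent.H44.isFinitePresentation_pullback (D.map φ) G
    have h1 : IsIso ((Scheme.Modules.pullback (c.π.app j)).map α) := by
      have h2 : (Scheme.Modules.pullback (c.π.app j)).map α =
          (compIso (c.π.app j) (D.map φ) (c.π.app i₀) (c.w φ) F).hom ≫ a.hom ≫
            (compIso (c.π.app j) (D.map φ) (c.π.app i₀) (c.w φ) G).inv := by
        rw [← hα]
        unfold bc
        simp only [Category.assoc, Iso.hom_inv_id, Category.comp_id, Iso.hom_inv_id_assoc]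
      rw [h2]
      infer_instance
    obtain ⟨j', φ', h3⟩ := (isIso_pullback_map_iff D c hc j α).mp h1
    exact ⟨j', φ' ≫ φ, ⟨((transIso D i₀ φ φ').app F).symm ≪≫
      (@asIso _ _ _ _ ((Scheme.Modules.pullback (D.map φ')).map α) h3) ≪≫
      (transIso D i₀ φ φ').app G⟩⟩
  · rintro ⟨j, φ, ⟨e⟩⟩
    exact ⟨((stageIso D c i₀ φ).app F).symm ≪≫
      (Scheme.Modules.pullback (c.π.app j)).mapIso e ≪≫ (stageIso D c i₀ φ).app G⟩

end Groth.Agent.H24.HomLim
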