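import Mathlib
import Groth.Agent.H24.HomLim.Ext
import Groth.Agent.H44.AffineFree
import Groth.Agent.H44.PullbackAffine

/-!
# Local bases of sections and local freeness (helper24)

`HasLocBasis N F`: every point has an affine open neighbourhood `U` on which `Γ(F, U)` has a basis
indexed by `Fin n` for some `n ∈ N`.  For quasi-coherent `F` this is `FlatMod.IsFinLocFree F`
(`N = univ`) resp. `FlatMod.IsFinLocFreeOfRank n F` (`N = {n}`).  It is stable under isomorphisms
and under pullback.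
-/

set_option autoImplicit false
universe u
open CategoryTheory AlgebraicGeometry Scheme.Modules TopologicalSpace TensorProduct

namespace Groth.Agent.H24.HomLim

variable {X : Scheme.{u}}

/-- Every point has an affine open neighbourhood over which the sections of `F` are free with a
basis indexed by `Fin n` for some `n ∈ N`. -/
def HasLocBasis (N : Set ℕ) (F : X.Modules) : Prop :=
  ∀ x : X, ∃ U : X.Opens, IsAffineOpen U ∧ x ∈ U ∧
    ∃ n ∈ N, Nonempty (Module.Basis (Fin n) Γ(X, U) Γ(F, U))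

/-- The linear equivalence on sections induced by an isomorphism of modules. -/
noncomputable def secEquiv {F G : X.Modules} (e : F ≅ G) (U : X.Opens) :
    Γ(F, U) ≃ₗ[Γ(X, U)] Γ(G, U) :=
  LinearEquiv.ofLinear (appLin e.hom U) (appLin e.inv U)
    (by
      ext x
      change (e.inv ≫ e.hom).app U x = x
      rw [e.inv_hom_id]; rfl)
    (by
      ext x
      change (e.hom ≫ e.inv).app U x = x
      rw [e.hom_inv_id]; rfl)

theorem HasLocBasis.of_iso {N : Set ℕ} {F G : X.Modules} (e : F ≅ G) (h : HasLocBasis N F) :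
    HasLocBasis N G := by
  intro x
  obtain ⟨U, hU, hxU, n, hn, ⟨b⟩⟩ := h x
  exact ⟨U, hU, hxU, n, hn, ⟨b.map (secEquiv e U)⟩⟩

/-- A basis of sections over an affine open restricts to a basis over a smaller affine open. -/
theorem nonempty_basis_of_le (F : X.Modules) [F.IsQuasicoherent] {U U' : X.Opens}
    (hU : IsAffineOpen U) (hU' : IsAffineOpen U') (h : U' ≤ U) {n : ℕ}
    (b : Module.Basis (Fin n) Γ(X, U) Γ(F, U)) :
    Nonempty (Module.Basis (Fin n) Γ(X, U') Γ(F, U')) := by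
  obtain ⟨e⟩ := Groth.Agent.H44.nonempty_iso_freeMod_of_basis F hU b
  exact Groth.Agent.H44.nonempty_basis_of_iso_freeMod F hU' h e

theorem isFinLocFreeOfRank_iff_hasLocBasis (F : X.Modules) [F.IsQuasicoherent] (n : ℕ) :
    FlatMod.IsFinLocFreeOfRank n F ↔ HasLocBasis {n} F := by
  constructor
  · intro h x
    obtain ⟨U, hxU, ⟨e⟩⟩ := h x
    obtain ⟨_, ⟨V, hV : IsAffineOpen V, rfl⟩, hxV, hVU⟩ :=
      X.isBasis_affineOpens.exists_subset_of_mem_open hxU U.2
    exact ⟨V, hV, hxV, n, rfl, Groth.Agent.H44.nonempty_basis_of_iso_freeMod F hV hVU e⟩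
  · intro h x
    obtain ⟨U, hU, hxU, m, hm, ⟨b⟩⟩ := h x
    obtain rfl : m = n := hm
    exact ⟨U, hxU, Groth.Agent.H44.nonempty_iso_freeMod_of_basis F hU b⟩

theorem isFinLocFree_iff_hasLocBasis (F : X.Modules) [F.IsQuasicoherent] :
    FlatMod.IsFinLocFree F ↔ HasLocBasis Set.univ F := by
  constructor
  · intro h x
    obtain ⟨U, n, hxU, ⟨e⟩⟩ := h x
    obtain ⟨_, ⟨V, hV : IsAffineOpen V, rfl⟩, hxV, hVU⟩ :=
      X.isBasis_affineOpens.exists_subset_of_mem_open hxU U.2
    exact ⟨V, hV, hxV, n, trivial, Groth.Agent.H44.nonempty_basis_of_iso_freeMod F hV hVU e⟩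
  · intro h x
    obtain ⟨U, hU, hxU, m, -, ⟨b⟩⟩ := h x
    exact ⟨U, m, hxU, Groth.Agent.H44.nonempty_iso_freeMod_of_basis F hU b⟩

/-- Local bases pull back. -/
theorem HasLocBasis.pullback {N : Set ℕ} {X' : Scheme.{u}} (f : X' ⟶ X) (F : X.Modules)
    [F.IsQuasicoherent] (h : HasLocBasis N F) :
    HasLocBasis N ((Scheme.Modules.pullback f).obj F) := by
  intro x'
  obtain ⟨U, hU, hxU, n, hn, ⟨b⟩⟩ := h (f.base x')
  obtain ⟨_, ⟨U', hU' : IsAffineOpen U', rfl⟩, hxU', hU'U⟩ :=
    X'.isBasis_affineOpens.exists_subset_of_mem_open (show x' ∈ ((f ⁻¹ᵁ U : X'.Opens) : Set X') from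
      hxU) (f ⁻¹ᵁ U).2
  have e : U' ≤ f ⁻¹ᵁ U := hU'U
  refine ⟨U', hU', hxU', n, hn, ?_⟩
  letI := (f.appLE U U' e).hom.toAlgebra
  exact ⟨(Algebra.TensorProduct.basis Γ(X', U') b).map
    (Groth.Agent.H44.pullbackSectionsEquiv f F hU' hU e).symm⟩

end Groth.Agent.H24.HomLim
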