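import Mathlib
import Groth.Agent.H24.HomLim.LocBasis
import Groth.Agent.H24.HomLim.BasisLim
import Groth.Agent.H24.HomLim.SecColim
import Groth.Agent.H24.ModLimIso
import Groth.Agent.H44.FPSections
import Groth.Agent.H44.FpqcFP

/-!
# Local freeness of a pulled-back module descends to a finite stage of a limit (helper24)
-/

set_option autoImplicit false
universe u
open CategoryTheory CategoryTheory.Limits AlgebraicGeometry Scheme.Modules TopologicalSpace Opposite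

namespace Groth.Agent.H24.HomLim

open Groth.Agent.H24.ModLimMain Groth.Agent.H24.ModLimAlg

variable {I : Type u} [SmallCategory I] [IsCofiltered I] (D : I ⥤ Scheme.{u})
  [∀ {i j : I} (f : i ⟶ j), IsAffineHom (D.map f)] (c : Cone D) (hc : IsLimit c)

include hc in
/-- If the preimage of an open of a stage in the limit is everything, the same holds at a later
stage (stages over a quasi-compact one). -/
theorem exists_preimage_eq_top (i₀ : I) [CompactSpace (D.obj i₀)] (ψ : Over i₀)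
    (U : (D.obj ψ.left).Opens) (hU : c.π.app ψ.left ⁻¹ᵁ U = ⊤) :
    ∃ (ψ' : Over i₀) (g : ψ' ⟶ ψ), D.map g.left ⁻¹ᵁ U = ⊤ := by
  have h1 : ∀ {i₁ i₂ : Over i₀} (f : i₁ ⟶ i₂), IsAffineHom ((Over.forget i₀ ⋙ D).map f) := by
    intro i₁ i₂ f
    dsimp
    infer_instance
  have h2 : ∀ i : Over i₀, CompactSpace ((Over.forget i₀ ⋙ D).obj i) := by
    intro i
    exact QuasiCompact.compactSpace_of_compactSpace (D.map i.hom)
  obtain ⟨ψ', g, hg⟩ := exists_map_eq_top (Over.forget i₀ ⋙ D) (c.whisker (Over.forget i₀))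
    ((Functor.Initial.isLimitWhiskerEquiv (Over.forget i₀) c).symm hc) (i := ψ) U hU
  exact ⟨ψ', g, hg⟩

include hc in
set_option maxRecDepth 4000 in
/-- A basis of the sections of `π^* F` over the preimage of an affine open of the stage `D j`
descends to the preimage in `D ψ` for all large `ψ` over `j`. -/
theorem exists_stage_basis (j : I) (Fj : (D.obj j).Modules) [Fj.IsQuasicoherent]
    [SheafOfModules.IsFinitePresentation (R := (D.obj j).ringCatSheaf) Fj]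
    {W : (D.obj j).Opens} (hW : IsAffineOpen W) {n : ℕ}
    (b : Module.Basis (Fin n) Γ(c.pt, c.π.app j ⁻¹ᵁ W)
      Γ((Scheme.Modules.pullback (c.π.app j)).obj Fj, c.π.app j ⁻¹ᵁ W)) :
    ∃ ψ₀ : Over j, ∀ (ψ : Over j) (_ : ψ ⟶ ψ₀),
      Nonempty (Module.Basis (Fin n) Γ(D.obj ψ.left, D.map ψ.hom ⁻¹ᵁ W)
        Γ((Scheme.Modules.pullback (D.map ψ.hom)).obj Fj, D.map ψ.hom ⁻¹ᵁ W)) := by
  haveI := isAffineHom_π_app D c hc j
  haveI : Module.FinitePresentation Γ(D.obj j, W) (NV Fj W) :=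
    Groth.Agent.H44.finitePresentation_sections_of_isFinitePresentation Fj hW
  obtain ⟨hcR⟩ := isColimit_cRS D c j W hc hW
  have hαn : ∀ {k k' : (Over j)ᵒᵖ} (f : k ⟶ k'),
      αS D j W k ≫ (RS D j W).map f = αS D j W k' := fun f => αS_map D j W f
  have hα := αS_ι D c j W
  have b₀ := b.map (Phi (c.π.app j) Fj hW)
  obtain ⟨b₁, -⟩ : ∃ b₁ : Module.Basis (Fin n) (cRS D c j W).pt
      ((ModuleCat.extendScalars (αSI D c j W).hom).obj (NV Fj W)), True :=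
    ⟨b₀, trivial⟩
  obtain ⟨k₀, hk₀⟩ := exists_basis_of_colimit hcR (αS D j W) hαn (αSI D c j W) hα (NV Fj W) b₁
  refine ⟨k₀.unop, fun ψ g => ?_⟩
  obtain ⟨b'⟩ := hk₀ (op ψ) g.op
  obtain ⟨b₂, -⟩ : ∃ b₂ : Module.Basis (Fin n) Γ(D.obj ψ.left, D.map ψ.hom ⁻¹ᵁ W)
      ((ModuleCat.extendScalars ((D.map ψ.hom).appLE W (D.map ψ.hom ⁻¹ᵁ W) le_rfl).hom).obj
        (NV Fj W)), True := ⟨b', trivial⟩
  exact ⟨b₂.map (Phi (D.map ψ.hom) Fj hW).symm⟩

section Main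

variable (i₀ : I) (N : Set ℕ)

/-- An affine open `W` of the stage `D ψ` over whose preimage in the limit `F` has a basis of
sections of allowed cardinality. -/
def Good (F : c.pt.Modules) (ψ : Over i₀) (W : (D.obj ψ.left).Opens) : Prop :=
  IsAffineOpen W ∧ ∃ n ∈ N, Nonempty (Module.Basis (Fin n) Γ(c.pt, c.π.app ψ.left ⁻¹ᵁ W)
    Γ(F, c.π.app ψ.left ⁻¹ᵁ W))

theorem π_preimage_map {ψ ψ' : Over i₀} (g : ψ' ⟶ ψ) (W : (D.obj ψ.left).Opens) :
    c.π.app ψ'.left ⁻¹ᵁ (D.map g.left ⁻¹ᵁ W) = c.π.app ψ.left ⁻¹ᵁ W := by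
  rw [← Scheme.Hom.comp_preimage, c.w]

theorem Good.transport {F : c.pt.Modules} {ψ ψ' : Over i₀} (g : ψ' ⟶ ψ)
    {W : (D.obj ψ.left).Opens} (h : Good D c i₀ N F ψ W) :
    Good D c i₀ N F ψ' (D.map g.left ⁻¹ᵁ W) := by
  refine ⟨h.1.preimage (D.map g.left), ?_⟩
  rw [π_preimage_map]
  exact h.2

include hc in
theorem exists_good (F : c.pt.Modules) [F.IsQuasicoherent] (h : HasLocBasis N F) (s : c.pt) :
    ∃ (ψ : Over i₀) (W : (D.obj ψ.left).Opens),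
      Good D c i₀ N F ψ W ∧ s ∈ c.π.app ψ.left ⁻¹ᵁ W := by
  obtain ⟨U, hU, hsU, n, hn, ⟨b⟩⟩ := h s
  obtain ⟨_, ⟨i, V, hV, rfl⟩, hsV, hVU⟩ :=
    Opens.isBasis_iff_nbhd.mp (isBasis_preimage_isAffineOpen D c hc) hsU
  let a : IsCofiltered.min i i₀ ⟶ i := IsCofiltered.minToLeft i i₀
  let ψ : Over i₀ := Over.mk (IsCofiltered.minToRight i i₀)
  have e : c.π.app ψ.left ⁻¹ᵁ (D.map a ⁻¹ᵁ V) = c.π.app i ⁻¹ᵁ V := by
    rw [← Scheme.Hom.comp_preimage, c.w]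
  haveI := isAffineHom_π_app D c hc ψ.left
  have hW : IsAffineOpen (D.map a ⁻¹ᵁ V) := hV.preimage (D.map a)
  refine ⟨ψ, D.map a ⁻¹ᵁ V, ⟨hW, n, hn, ?_⟩, ?_⟩
  · exact nonempty_basis_of_le F hU (hW.preimage (c.π.app ψ.left)) (e ▸ hVU) b
  · rw [e]
    exact hsV

variable [CompactSpace (D.obj i₀)] (F₀ : (D.obj i₀).Modules) [F₀.IsQuasicoherent]
  [SheafOfModules.IsFinitePresentation (R := (D.obj i₀).ringCatSheaf) F₀]

include hc in
/-- **Local freeness (with ranks in `N`) of the pullback to the limit descends to a stage.** -/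
theorem hasLocBasis_pullback_iff :
    HasLocBasis N ((Scheme.Modules.pullback (c.π.app i₀)).obj F₀) ↔
      ∃ (j : I) (φ : j ⟶ i₀), HasLocBasis N ((Scheme.Modules.pullback (D.map φ)).obj F₀) := by
  classical
  constructor
  · intro h
    haveI := isAffineHom_π_app D c hc i₀
    haveI : CompactSpace c.pt := QuasiCompact.compactSpace_of_compactSpace (c.π.app i₀)
    obtain ⟨F, hF⟩ : ∃ F : c.pt.Modules, F = (Scheme.Modules.pullback (c.π.app i₀)).obj F₀ :=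
      ⟨_, rfl⟩
    haveI : F.IsQuasicoherent := by rw [hF]; infer_instance
    have h' : HasLocBasis N F := by rw [hF]; exact h
    choose ψs Ws hgood hmem using exists_good D c hc i₀ N F h'
    -- a finite subcover of the limit
    obtain ⟨t, ht⟩ := isCompact_univ.elim_finite_subcover
      (fun s => ((c.π.app (ψs s).left ⁻¹ᵁ Ws s : c.pt.Opens) : Set c.pt))
      (fun s => (c.π.app (ψs s).left ⁻¹ᵁ Ws s).2)
      (fun x _ => Set.mem_iUnion.mpr ⟨x, hmem x⟩)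
    -- a common stage
    obtain ⟨ψ₁, hψ₁⟩ := IsCofiltered.inf_objs_exists (t.image ψs)
    have hg : ∀ s : t, Nonempty (ψ₁ ⟶ ψs s.1) := fun s =>
      hψ₁ (Finset.mem_image_of_mem ψs s.2)
    choose g₁ _ using fun s : t => (⟨(hg s).some, trivial⟩ : ∃ _ : ψ₁ ⟶ ψs s.1, True)
    obtain ⟨W₁, hW₁def⟩ : ∃ W₁ : t → (D.obj ψ₁.left).Opens,
        W₁ = fun s => D.map (g₁ s).left ⁻¹ᵁ Ws s.1 := ⟨_, rfl⟩
    have hgood₁ : ∀ s : t, Good D c i₀ N F ψ₁ (W₁ s) := fun s => by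
      rw [hW₁def]; exact (hgood s.1).transport D c i₀ N (g₁ s)
    have hWtot : c.π.app ψ₁.left ⁻¹ᵁ (⨆ s : t, W₁ s) = ⊤ := by
      rw [eq_top_iff]
      intro x _
      obtain ⟨s, hs, hxs⟩ := Set.mem_iUnion₂.mp (ht (Set.mem_univ x))
      have hxs' : x ∈ c.π.app (ψs s).left ⁻¹ᵁ Ws s := hxs
      rw [← π_preimage_map D c i₀ (g₁ ⟨s, hs⟩)] at hxs'
      change (c.π.app ψ₁.left).base x ∈ (⨆ s : t, W₁ s)
      rw [Opens.mem_iSup]
      refine ⟨⟨s, hs⟩, ?_⟩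
      rw [hW₁def]
      exact hxs'
    obtain ⟨ψ₂, g₂, hg₂⟩ := exists_preimage_eq_top D c hc i₀ ψ₁ _ hWtot
    obtain ⟨W₂, hW₂def⟩ : ∃ W₂ : t → (D.obj ψ₂.left).Opens,
        W₂ = fun s => D.map g₂.left ⁻¹ᵁ W₁ s := ⟨_, rfl⟩
    have hgood₂ : ∀ s : t, Good D c i₀ N F ψ₂ (W₂ s) := fun s => by
      rw [hW₂def]; exact (hgood₁ s).transport D c i₀ N g₂
    have hcover₂ : ∀ z : D.obj ψ₂.left, ∃ s : t, z ∈ W₂ s := by
      intro z
      have hz : z ∈ D.map g₂.left ⁻¹ᵁ (⨆ s : t, W₁ s) := by rw [hg₂]; trivial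
      have hz' : (D.map g₂.left).base z ∈ (⨆ s : t, W₁ s) := hz
      rw [Opens.mem_iSup] at hz'
      obtain ⟨s, hs⟩ := hz'
      exact ⟨s, by rw [hW₂def]; exact hs⟩
    -- re-base at `ψ₂`
    obtain ⟨Fj, hFj⟩ : ∃ Fj : (D.obj ψ₂.left).Modules,
        Fj = (Scheme.Modules.pullback (D.map ψ₂.hom)).obj F₀ := ⟨_, rfl⟩
    haveI : Fj.IsQuasicoherent := by rw [hFj]; infer_instance
    haveI : SheafOfModules.IsFinitePresentation (R := (D.obj ψ₂.left).ringCatSheaf) Fj := by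
      rw [hFj]; exact Groth.Agent.H44.isFinitePresentation_pullback (D.map ψ₂.hom) F₀
    have eF : (Scheme.Modules.pullback (c.π.app ψ₂.left)).obj Fj ≅ F := by
      rw [hFj, hF]; exact (stageIso D c i₀ ψ₂.hom).app F₀
    have hloc : ∀ s : t, ∃ χ₀ : Over ψ₂.left, ∀ (χ : Over ψ₂.left) (_ : χ ⟶ χ₀),
        ∃ n ∈ N, Nonempty (Module.Basis (Fin n) Γ(D.obj χ.left, D.map χ.hom ⁻¹ᵁ W₂ s)
          Γ((Scheme.Modules.pullback (D.map χ.hom)).obj Fj, D.map χ.hom ⁻¹ᵁ W₂ s)) := by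
      intro s
      obtain ⟨hW, n, hn, ⟨b⟩⟩ := hgood₂ s
      obtain ⟨χ₀, hχ₀⟩ := exists_stage_basis D c hc ψ₂.left Fj hW (b.map (secEquiv eF.symm _))
      exact ⟨χ₀, fun χ g => ⟨n, hn, hχ₀ χ g⟩⟩
    choose χ₀ hχ₀ using hloc
    obtain ⟨χ, hχ⟩ := IsCofiltered.inf_objs_exists (Finset.univ.image χ₀)
    refine ⟨χ.left, χ.hom ≫ ψ₂.hom, ?_⟩
    have hfin : HasLocBasis N ((Scheme.Modules.pullback (D.map χ.hom)).obj Fj) := by
      intro y
      obtain ⟨s, hys⟩ := hcover₂ ((D.map χ.hom).base y)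
      obtain ⟨g⟩ := hχ (Finset.mem_image_of_mem χ₀ (Finset.mem_univ s))
      obtain ⟨n, hn, hb⟩ := hχ₀ s χ g
      exact ⟨D.map χ.hom ⁻¹ᵁ W₂ s, (hgood₂ s).1.preimage (D.map χ.hom), hys, n, hn, hb⟩
    rw [hFj] at hfin
    exact HasLocBasis.of_iso ((transIso D i₀ ψ₂.hom χ.hom).app F₀) hfin
  · rintro ⟨j, φ, h⟩
    exact HasLocBasis.of_iso ((stageIso D c i₀ φ).app F₀)
      (HasLocBasis.pullback (c.π.app j) _ h)

end Main

end Groth.Agent.H24.HomLim
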